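import Cfsg.Agent.LThreeFi23.TwoCl
import Cfsg.Agent.H50.S8.FrobOf_m3
import Cfsg.Agent.Lib.PermNetFast
import Cfsg.Agent.H822.Ore.Fi23Asm_m3
import Cfsg.Agent.H450.S8.Core
import Cfsg.Agent.H664.Eight.Base
import Cfsg.Agent.H359.CT.McLCnt
import Cfsg.Agent.H41.McLTwo.Ords_m3
import Cfsg.Agent.H35.TI.McLCent
import Cfsg.Agent.Lib.MinNormalNonabelian
import Cfsg.Agent.Lib.SubnormalJoin
import Cfsg.Agent.H251.Der.AutFacts
import Cfsg.Agent.CpAutCo3.MTw
import Cfsg.Agent.H968.Gen.He_m3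
import Cfsg.Agent.H852.FrobOrd
import Cfsg.Agent.H257.RG.SuzGen
import Cfsg.Agent.SporRec.SuzCl.TData
import Mathlib
import Cfsg.Agent.H606.OreM.Ok_m3
import Cfsg.Agent.H417.Two.Co3Seven
import Cfsg.Agent.S0187
import Cfsg.Agent.H611.S8.Cover_m3
import Cfsg.Agent.FastGrp
import Cfsg.Agent.Prune
set_option linter.all false

section
prune_inst 0x7ff4fef98fa88ddfffff7e3ffefdddfdf0e4ffffb4dff9fbffe0ebffeb9f6b0289e5f3856fec58fe0ed6c0b410e87b03f97eee7fea6bdc7ffffd5ff45ffbff8fedffbd0951d5883e0fbc6ffe93f07f8e7f3fffffffffffffffffffffffffffbeffffffffffff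

-- part: H30/S8/Fi23W
section
set_option linter.all false
open scoped Cfsg.Agent.FastGrp

/-!
# `Fi23`: a subgroup `3^(1+8)` and a subgroup `2^11:23` by words (helper30)
-/

set_option autoImplicit false
set_option maxRecDepth 100000
set_option linter.constructorNameAsVariable false

namespace Cfsg.Agent.H30.S8.Fi23

open Subgroup Cfsg Cfsg.Agent.Lib.PermNet Cfsg.Agent.Fischer.Fi23Hom Cfsg.Agent.LThreeFi23
open Cfsg.Spor (Fi23)

/-- the points of the letters without `e` -/
abbrev ten : List ℕ := [11589, 8004, 8003, 8000, 8002, 8005, 7999, 8007, 8006, 0]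

/-- a set of points as a number -/
private noncomputable def setN (l : List ℕ) : ℕ := List.rec 0 (fun a _ x => Nat.lor (Nat.shiftLeft 1 a) x) l

private theorem testBit_setN {l : List ℕ} {r : ℕ} : (setN l).testBit r = true ↔ r ∈ l := by
  induction l with
  | nil => exact ⟨fun h => absurd ((Nat.zero_testBit r).symm.trans h) Bool.false_ne_true, fun h => absurd h List.not_mem_nil⟩
  | cons a l ih =>
    show (1 <<< a ||| setN l).testBit r = true ↔ _
    rw [Nat.testBit_or, Bool.or_eq_true, ih, List.mem_cons, Nat.one_shiftLeft, Nat.testBit_two_pow, decide_eq_true_eq, eq_comm]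

/-- four sets which separate the ten points -/
private def LL : List (List ℕ) := [[11589, 8002, 8005, 8007], [8004, 8002, 7999, 8006], [8003, 8005, 7999, 0], [8000, 8007, 8006, 0]]

/-- both words have the same preimages of the four sets -/
private noncomputable def ag (l l' : List Lt) : Bool :=
  LL.all fun s => seqB (appWord (ntw l) (setN s)) fun x => seqB (appWord (ntw l') (setN s)) fun y => Nat.beq x y

private theorem agree_of {l l' : List Lt} (h : ag l l' = true) : agree l l' ten = true := by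
  have h1 : elw l' * (elw l)⁻¹ = 1 := by
    apply eq_one_of_ten
    intro x hx
    have hq : pt x ∈ ten := by
      cases x
      case e => exact absurd rfl hx
      all_goals decide
    have key : ∀ s ∈ LL, pt x ∈ s ↔ rho (elw l' * (elw l)⁻¹) (pt x) ∈ s := by
      intro s hs
      have h2 := List.all_eq_true.1 h s hs
      rw [seqB_eq, seqB_eq] at h2
      have h3 : (appWord (ntw l) (setN s)).testBit ((rho (elw l))⁻¹ (pt x)) =
        (appWord (ntw l') (setN s)).testBit ((rho (elw l))⁻¹ (pt x)) := by rw [Nat.eq_of_beq_eq_true h2]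
      rw [testBit_appWord (ntw_ok _), testBit_appWord (ntw_ok _), ← rho_elw, ← rho_elw, Equiv.Perm.coe_inv,
        Equiv.apply_symm_apply] at h3
      rw [← testBit_setN, ← testBit_setN, h3, map_mul, map_inv, Equiv.Perm.mul_apply, Equiv.Perm.coe_inv]
    obtain ⟨s, hs, h2, h3⟩ := (by decide : ∀ q ∈ ten, ∃ s ∈ LL, q ∈ s ∧ ∀ r ∈ s, r ∈ ten) _ hq
    exact (by decide +kernel : ∀ q ∈ ten, ∀ r ∈ ten, (∀ s ∈ LL, q ∈ s ↔ r ∈ s) → r = q) _ hq _ (h3 _ ((key s hs).1 h2)) key
  have h2 : ptw l = ptw l' := funext fun p => by rw [ptw_eq, ptw_eq, mul_inv_eq_one.1 h1]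
  have h3 : ∀ ps, agree l l' ps = true := by
    intro ps
    induction ps with
    | nil => rfl
    | cons q ps ih => exact (Bool.and_eq_true _ _).mpr ⟨h2 ▸ Nat.beq_refl _, ih⟩
  exact h3 _

def u1 : List Lt := [.b, .c, .d, .h, .i, .e, .d, .h, .f, .e, .d, .c, .b, .c, .d, .e, .f, .h, .d, .e, .i, .h, .d, .c]
def v1 : List Lt := [.b, .a]
def u2 : List Lt := [.h, .c, .d, .e, .b, .c, .d, .h, .f, .e, .d, .c, .b, .a, .b, .c, .d, .e, .f, .h, .d, .c, .b, .e, .d, .c]
def v2 : List Lt := [.h, .i]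
def u3 : List Lt := [.e, .c, .d, .h, .i, .b, .c, .d, .h, .e, .d, .c, .b, .a, .b, .c, .d, .e, .h, .d, .c, .b, .i, .h, .d, .c]
def v3 : List Lt := [.e, .f]
def u4 : List Lt := [.z, .g, .f, .e, .c, .d, .h, .i, .b, .c, .d, .h, .j, .g, .f, .e, .d, .c, .b, .a, .b, .c, .d, .e, .f, .g, .j, .h, .d, .c, .b, .i, .h, .d, .c, .e, .f, .g]
def v4 : List Lt := [.z, .j]
/-- the centre of `3^(1+8)` -/
def zc : List Lt := [.c, .d, .h, .i, .e, .d, .h, .f, .e, .d, .c, .b, .c, .d, .e, .f, .h, .d, .e, .i, .h, .d, .c, .b, .b, .a, .b, .c, .d, .h, .i, .e, .d, .h, .f, .e, .d, .c, .b, .c, .d, .e, .f, .h, .d, .e, .i, .h, .d, .c, .a, .b]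

set_option Elab.async false in
theorem z_cube : agree (zc ++ (zc ++ zc)) [] ten = true := agree_of (by (rewrite [show @Cfsg.Agent.H30.S8.Fi23.ag = delta% @Cfsg.Agent.H30.S8.Fi23.ag from by delta Cfsg.Agent.H30.S8.Fi23.ag; rfl, Cfsg.Agent.Lib.PermNetFast.appWord_fast]; decide +kernel))
theorem u_cube1 : agree (u1 ++ (u1 ++ u1)) [] ten = true := agree_of (by decide +kernel)
set_option Elab.async false in
theorem uz1 : agree (u1 ++ zc) (zc ++ u1) ten = true := agree_of (by (rewrite [show @Cfsg.Agent.H30.S8.Fi23.ag = delta% @Cfsg.Agent.H30.S8.Fi23.ag from by delta Cfsg.Agent.H30.S8.Fi23.ag; rfl, Cfsg.Agent.Lib.PermNetFast.appWord_fast]; decide +kernel))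
set_option Elab.async false in
theorem vz1 : agree (v1 ++ zc) (zc ++ v1) ten = true := agree_of (by (rewrite [show @Cfsg.Agent.H30.S8.Fi23.ag = delta% @Cfsg.Agent.H30.S8.Fi23.ag from by delta Cfsg.Agent.H30.S8.Fi23.ag; rfl, Cfsg.Agent.Lib.PermNetFast.appWord_fast]; decide +kernel))
set_option Elab.async false in
theorem vu1 : agree (v1 ++ u1) (u1 ++ (zc ++ v1)) ten = true := agree_of (by (rewrite [show @Cfsg.Agent.H30.S8.Fi23.ag = delta% @Cfsg.Agent.H30.S8.Fi23.ag from by delta Cfsg.Agent.H30.S8.Fi23.ag; rfl, Cfsg.Agent.Lib.PermNetFast.appWord_fast]; decide +kernel))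
theorem u_cube2 : agree (u2 ++ (u2 ++ u2)) [] ten = true := agree_of (by decide +kernel)
set_option Elab.async false in
theorem uz2 : agree (u2 ++ zc) (zc ++ u2) ten = true := agree_of (by (rewrite [show @Cfsg.Agent.H30.S8.Fi23.ag = delta% @Cfsg.Agent.H30.S8.Fi23.ag from by delta Cfsg.Agent.H30.S8.Fi23.ag; rfl, Cfsg.Agent.Lib.PermNetFast.appWord_fast]; decide +kernel))
theorem vz2 : agree (v2 ++ zc) (zc ++ v2) ten = true := agree_of (by decide +kernel)
set_option Elab.async false in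
theorem vu2 : agree (v2 ++ u2) (u2 ++ (zc ++ v2)) ten = true := agree_of (by (rewrite [show @Cfsg.Agent.H30.S8.Fi23.ag = delta% @Cfsg.Agent.H30.S8.Fi23.ag from by delta Cfsg.Agent.H30.S8.Fi23.ag; rfl, Cfsg.Agent.Lib.PermNetFast.appWord_fast]; decide +kernel))
set_option Elab.async false in
theorem u_cube3 : agree (u3 ++ (u3 ++ u3)) [] ten = true := agree_of (by (rewrite [show @Cfsg.Agent.H30.S8.Fi23.ag = delta% @Cfsg.Agent.H30.S8.Fi23.ag from by delta Cfsg.Agent.H30.S8.Fi23.ag; rfl, Cfsg.Agent.Lib.PermNetFast.appWord_fast]; decide +kernel))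
set_option Elab.async false in
theorem uz3 : agree (u3 ++ zc) (zc ++ u3) ten = true := agree_of (by (rewrite [show @Cfsg.Agent.H30.S8.Fi23.ag = delta% @Cfsg.Agent.H30.S8.Fi23.ag from by delta Cfsg.Agent.H30.S8.Fi23.ag; rfl, Cfsg.Agent.Lib.PermNetFast.appWord_fast]; decide +kernel))
theorem vz3 : agree (v3 ++ zc) (zc ++ v3) ten = true := agree_of (by decide +kernel)
set_option Elab.async false in
theorem vu3 : agree (v3 ++ u3) (u3 ++ (zc ++ v3)) ten = true := agree_of (by (rewrite [show @Cfsg.Agent.H30.S8.Fi23.ag = delta% @Cfsg.Agent.H30.S8.Fi23.ag from by delta Cfsg.Agent.H30.S8.Fi23.ag; rfl, Cfsg.Agent.Lib.PermNetFast.appWord_fast]; decide +kernel))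
set_option Elab.async false in
theorem u_cube4 : agree (u4 ++ (u4 ++ u4)) [] ten = true := agree_of (by (rewrite [show @Cfsg.Agent.H30.S8.Fi23.ag = delta% @Cfsg.Agent.H30.S8.Fi23.ag from by delta Cfsg.Agent.H30.S8.Fi23.ag; rfl, Cfsg.Agent.Lib.PermNetFast.appWord_fast]; decide +kernel))
set_option Elab.async false in
theorem uz4 : agree (u4 ++ zc) (zc ++ u4) ten = true := agree_of (by (rewrite [show @Cfsg.Agent.H30.S8.Fi23.ag = delta% @Cfsg.Agent.H30.S8.Fi23.ag from by delta Cfsg.Agent.H30.S8.Fi23.ag; rfl, Cfsg.Agent.Lib.PermNetFast.appWord_fast]; decide +kernel))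
set_option Elab.async false in
theorem vz4 : agree (v4 ++ zc) (zc ++ v4) ten = true := agree_of (by (rewrite [show @Cfsg.Agent.H30.S8.Fi23.ag = delta% @Cfsg.Agent.H30.S8.Fi23.ag from by delta Cfsg.Agent.H30.S8.Fi23.ag; rfl, Cfsg.Agent.Lib.PermNetFast.appWord_fast]; decide +kernel))
set_option Elab.async false in
theorem vu4 : agree (v4 ++ u4) (u4 ++ (zc ++ v4)) ten = true := agree_of (by (rewrite [show @Cfsg.Agent.H30.S8.Fi23.ag = delta% @Cfsg.Agent.H30.S8.Fi23.ag from by delta Cfsg.Agent.H30.S8.Fi23.ag; rfl, Cfsg.Agent.Lib.PermNetFast.appWord_fast]; decide +kernel))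
set_option Elab.async false in
theorem uu12 : agree (u2 ++ u1) (u1 ++ u2) ten = true := agree_of (by (rewrite [show @Cfsg.Agent.H30.S8.Fi23.ag = delta% @Cfsg.Agent.H30.S8.Fi23.ag from by delta Cfsg.Agent.H30.S8.Fi23.ag; rfl, Cfsg.Agent.Lib.PermNetFast.appWord_fast]; decide +kernel))
theorem vv12 : agree (v2 ++ u1) (u1 ++ v2) ten = true := agree_of (by decide +kernel)
set_option Elab.async false in
theorem uu13 : agree (u3 ++ u1) (u1 ++ u3) ten = true := agree_of (by (rewrite [show @Cfsg.Agent.H30.S8.Fi23.ag = delta% @Cfsg.Agent.H30.S8.Fi23.ag from by delta Cfsg.Agent.H30.S8.Fi23.ag; rfl, Cfsg.Agent.Lib.PermNetFast.appWord_fast]; decide +kernel))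
set_option Elab.async false in
theorem vv13 : agree (v3 ++ u1) (u1 ++ v3) ten = true := agree_of (by (rewrite [show @Cfsg.Agent.H30.S8.Fi23.ag = delta% @Cfsg.Agent.H30.S8.Fi23.ag from by delta Cfsg.Agent.H30.S8.Fi23.ag; rfl, Cfsg.Agent.Lib.PermNetFast.appWord_fast]; decide +kernel))
set_option Elab.async false in
theorem uu14 : agree (u4 ++ u1) (u1 ++ u4) ten = true := agree_of (by (rewrite [show @Cfsg.Agent.H30.S8.Fi23.ag = delta% @Cfsg.Agent.H30.S8.Fi23.ag from by delta Cfsg.Agent.H30.S8.Fi23.ag; rfl, Cfsg.Agent.Lib.PermNetFast.appWord_fast]; decide +kernel))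
set_option Elab.async false in
theorem vv14 : agree (v4 ++ u1) (u1 ++ v4) ten = true := agree_of (by (rewrite [show @Cfsg.Agent.H30.S8.Fi23.ag = delta% @Cfsg.Agent.H30.S8.Fi23.ag from by delta Cfsg.Agent.H30.S8.Fi23.ag; rfl, Cfsg.Agent.Lib.PermNetFast.appWord_fast]; decide +kernel))
set_option Elab.async false in
theorem uu23 : agree (u3 ++ u2) (u2 ++ u3) ten = true := agree_of (by (rewrite [show @Cfsg.Agent.H30.S8.Fi23.ag = delta% @Cfsg.Agent.H30.S8.Fi23.ag from by delta Cfsg.Agent.H30.S8.Fi23.ag; rfl, Cfsg.Agent.Lib.PermNetFast.appWord_fast]; decide +kernel))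
set_option Elab.async false in
theorem vv23 : agree (v3 ++ u2) (u2 ++ v3) ten = true := agree_of (by (rewrite [show @Cfsg.Agent.H30.S8.Fi23.ag = delta% @Cfsg.Agent.H30.S8.Fi23.ag from by delta Cfsg.Agent.H30.S8.Fi23.ag; rfl, Cfsg.Agent.Lib.PermNetFast.appWord_fast]; decide +kernel))
set_option Elab.async false in
theorem uu24 : agree (u4 ++ u2) (u2 ++ u4) ten = true := agree_of (by (rewrite [show @Cfsg.Agent.H30.S8.Fi23.ag = delta% @Cfsg.Agent.H30.S8.Fi23.ag from by delta Cfsg.Agent.H30.S8.Fi23.ag; rfl, Cfsg.Agent.Lib.PermNetFast.appWord_fast]; decide +kernel))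
theorem vv24 : agree (v4 ++ u2) (u2 ++ v4) ten = true := agree_of (by decide +kernel)
set_option Elab.async false in
theorem uu34 : agree (u4 ++ u3) (u3 ++ u4) ten = true := agree_of (by (rewrite [show @Cfsg.Agent.H30.S8.Fi23.ag = delta% @Cfsg.Agent.H30.S8.Fi23.ag from by delta Cfsg.Agent.H30.S8.Fi23.ag; rfl, Cfsg.Agent.Lib.PermNetFast.appWord_fast]; decide +kernel))
theorem vv34 : agree (v4 ++ u3) (u3 ++ v4) ten = true := agree_of (by decide +kernel)

theorem eq2 {a b c d : List Lt} (h : agree (a ++ b) (c ++ d) ten = true) : elw a * elw b = elw c * elw d := by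
  rw [← elw_append, ← elw_append]
  exact elw_eq_of_agree h

theorem eq3 {a b c d e : List Lt} (h : agree (a ++ b) (c ++ (d ++ e)) ten = true) :
    elw a * elw b = elw c * (elw d * elw e) := by
  rw [← elw_append, ← elw_append, ← elw_append]
  exact elw_eq_of_agree h

theorem cube {a : List Lt} (h : agree (a ++ (a ++ a)) [] ten = true) : elw a * elw a * elw a = 1 := by
  rw [mul_assoc, ← elw_append, ← elw_append, elw_eq_of_agree h, elw_nil]

/-- **the tower `3^(1+8)`** -/
theorem tw : Tw (elw zc) [(elw u1, elw v1), (elw u2, elw v2), (elw u3, elw v3), (elw u4, elw v4)] where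
  z3 := cube z_cube
  u3 := by
    intro p hp
    simp only [List.mem_cons, List.not_mem_nil, or_false] at hp
    rcases hp with rfl | rfl | rfl | rfl
    · exact cube u_cube1
    · exact cube u_cube2
    · exact cube u_cube3
    · exact cube u_cube4
  uz := by
    intro p hp
    simp only [List.mem_cons, List.not_mem_nil, or_false] at hp
    rcases hp with rfl | rfl | rfl | rfl
    · exact eq2 uz1
    · exact eq2 uz2
    · exact eq2 uz3
    · exact eq2 uz4
  vz := by
    intro p hp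
    simp only [List.mem_cons, List.not_mem_nil, or_false] at hp
    rcases hp with rfl | rfl | rfl | rfl
    · exact eq2 vz1
    · exact eq2 vz2
    · exact eq2 vz3
    · exact eq2 vz4
  vu := by
    intro p hp
    simp only [List.mem_cons, List.not_mem_nil, or_false] at hp
    rcases hp with rfl | rfl | rfl | rfl
    · exact eq3 vu1
    · exact eq3 vu2
    · exact eq3 vu3
    · exact eq3 vu4
  pw := by
    refine List.Pairwise.cons ?_ (List.Pairwise.cons ?_ (List.Pairwise.cons ?_ (List.Pairwise.cons ?_ List.Pairwise.nil)))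
    · intro q hq
      simp only [List.mem_cons, List.not_mem_nil, or_false] at hq
      rcases hq with rfl | rfl | rfl
      · exact ⟨eq2 uu12, eq2 vv12⟩
      · exact ⟨eq2 uu13, eq2 vv13⟩
      · exact ⟨eq2 uu14, eq2 vv14⟩
    · intro q hq
      simp only [List.mem_cons, List.not_mem_nil, or_false] at hq
      rcases hq with rfl | rfl
      · exact ⟨eq2 uu23, eq2 vv23⟩
      · exact ⟨eq2 uu24, eq2 vv24⟩
    · intro q hq
      simp only [List.mem_cons, List.not_mem_nil, or_false] at hq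
      rcases hq with rfl
      exact ⟨eq2 uu34, eq2 vv34⟩
    · intro q hq
      exact absurd hq (by simp)

/-! ### The subgroup `2^11:23` -/

/-- an element of order 23 -/
def y : List Lt := [.d, .e, .g, .d, .c, .j, .d, .i, .b, .a, .h, .j, .a, .f, .c, .e, .i, .d, .j, .h, .d, .a, .d, .b, .f]
/-- a transposition -/
def t : List Lt := [.i, .h, .f, .e, .d, .c, .d, .e, .f, .h, .i]

set_option Elab.async false in
theorem y_pow : agree (wrep y 23) [] ten = true := agree_of (by (rewrite [show @Cfsg.Agent.H30.S8.Fi23.ag = delta% @Cfsg.Agent.H30.S8.Fi23.ag from by delta Cfsg.Agent.H30.S8.Fi23.ag; rfl, Cfsg.Agent.Lib.PermNetFast.appWord_fast]; decide +kernel))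
set_option Elab.async false in
theorem ty_pow : agree (wrep (t ++ y) 23) [] ten = true := agree_of (by (rewrite [show @Cfsg.Agent.H30.S8.Fi23.ag = delta% @Cfsg.Agent.H30.S8.Fi23.ag from by delta Cfsg.Agent.H30.S8.Fi23.ag; rfl, Cfsg.Agent.Lib.PermNetFast.appWord_fast]; decide +kernel))
theorem t_pt : Nat.beq (ptw [.i, .h, .f, .e, .d] 8003) 2522 = true := by decide +kernel

/-- the orbit of the point of `t` -/
def pts : List ℕ := [2522, 1045, 1797, 2755, 18561, 10717, 17122, 17177, 14946, 18175, 19263, 7891, 12631, 12204, 22066, 4722, 6070, 11064, 7340, 3255, 4601, 7168, 1049]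

end Cfsg.Agent.H30.S8.Fi23
end

-- part: H935/S8/JNum
section
set_option linter.all false
open scoped Cfsg.Agent.FastGrp

/-!
# S4908, `J₄`: the numerical facts on the degrees (helper935)

A degree of `J₄` divides `|J₄|` and is `0`, `1`, `14`, `29`, `42` modulo `43`.
-/

set_option autoImplicit false

open Cfsg Subgroup

namespace Cfsg.Agent.H935.S8.JFour

open Cfsg.Agent.H651.Two Cfsg.Agent.H854.JM

/-- the degrees of `Spor.J4` -/
theorem deg {d : ℕ} (hd : d ∈ charDegrees Spor.J4) :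
    d ∣ 86775571046077562880 ∧ (d % 43 = 0 ∨ d % 43 = 1 ∨ d % 43 = 14 ∨ d % 43 = 29 ∨ d % 43 = 42) := by
  have hfin : Finite Spor.J4 := H858.FixJ4.facts.1
  have hsim := simple_J
  obtain ⟨χ, rfl⟩ := hd
  refine ⟨H854.Ore.card'' ▸ H511.Ore.charDegree_dvd χ, ?_⟩
  have hm : (⟨43, 1, 14, 3, [(0, 0), (1, 3), (14, -1), (29, 1), (42, -3)], 3, true⟩ : CD) ∈ H854.Ore.cdJ := by
    simp [H854.Ore.cdJ]
  have h := H511.Ore.res_of_has noncomm_J H854.Ore.card'' (H854.Ore.hasJ _ hm)
    (List.all_eq_true.1 H854.Ore.hcd _ hm) χ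
  simpa [or_assoc] using h

theorem degX {X : Type*} [Group X] (hX : Spor.IsoJ4 X) {d : ℕ} (hd : d ∈ charDegrees X) :
    d ∣ 86775571046077562880 ∧ (d % 43 = 0 ∨ d % 43 = 1 ∨ d % 43 = 14 ∨ d % 43 = 29 ∨ d % 43 = 42) := by
  obtain ⟨e⟩ := hX
  exact deg (H664.Eight.charDegrees_subset e.symm hd)

theorem num {X : Type*} [Group X] (hX : Spor.IsoJ4 X) :
    H450.S8.Num (charDegrees X) 86775571046077562880 (H450.S8.okDeg 1 [(43, 14)]) where
  pos := by norm_num
  dvd hd := (degX hX hd).1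
  ok {d} hd := by
    obtain ⟨h1, h2⟩ := degX hX hd
    rw [H450.S8.okDeg, Bool.and_eq_true]
    refine ⟨?_, ?_⟩
    · rw [Bool.or_eq_true, beq_iff_eq, decide_eq_true_eq]
      exact Or.inr (Nat.pos_of_dvd_of_pos h1 (by norm_num))
    · rw [List.all_eq_true]
      intro x hx
      rw [List.mem_singleton] at hx
      subst hx
      rcases h2 with h | h | h | h | h <;> rw [h] <;> decide

end Cfsg.Agent.H935.S8.JFour

private theorem dce_a67df3cf6b9d : _root_.True := by
  try have : _root_.True := by simp only [_root_.Cfsg.Agent.H450.S8.okDeg.eq_1]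
  exact _root_.True.intro
end

-- part: H517/S8/McLDeg_mg
section
prune_inst 0xa0002204032200000004001000202011800004b000200001d14001460006d7210082a90038001e021320a2210005002811000059000000000000020040010120002a4202a348010400001680b805180c00000000000000000000000000041000000000000
set_option linter.all false
open scoped Cfsg.Agent.FastGrp

-- part: H517/S8/McLDeg
section
/-!
# The degrees of the irreducible characters of `McL` (helper517)

From the complete character table of helper359 (`H359/CT/McLCnt.tab`).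
-/

set_option autoImplicit false
set_option maxRecDepth 100000

namespace Cfsg.Agent.H517.S8.McLDeg

open Cfsg Cfsg.Agent.H359.CT Cfsg.Agent.H359.CT.McL Cfsg.Agent.H447.CTab Cfsg.Agent.Characters.Core

universe u

/-- the 17 degrees -/
def degs : List ℕ :=
  [1, 22, 231, 252, 770, 896, 1750, 3520, 4500, 4752, 5103, 5544, 8019, 8250, 9625, 9856, 10395]

theorem finite_of {X : Type u} [Group X] (h : Spor.IsoMcL X) : Finite X := by
  obtain ⟨e⟩ := exists_e h
  refine Nat.finite_of_card_ne_zero ?_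
  rw [Nat.card_congr e.toEquiv, Cfsg.Agent.H359.CT.McL.card_K0]
  norm_num

theorem hdeg {X : Type u} [Group X] [Finite X] (h : Spor.IsoMcL X) (n : ℕ) :
    n ∈ charDegrees X ↔ (∃ a : Fin 12, dR a = n) ∨ ∃ b : Fin 6, dP b = n := by
  obtain ⟨e⟩ := exists_e h
  obtain ⟨χ, ψ, hχ, hψ, -, hbij⟩ := (tab e).exists_irr
  have h1 : ∀ a, charDegree (χ a : X → ℂ) = dR a := fun a => by
    rw [← hdR a]
    exact Table.degree_eq (by rw [← (tab e).hi0]; exact hχ a 0)
  have h2 : ∀ p : Fin 6 × Bool, charDegree ((if p.2 then ψ p.1 else cj (ψ p.1) : IrrCharacter X) : X → ℂ) =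
      dP p.1 := by
    rintro ⟨b, s⟩
    obtain ⟨d, -, hd⟩ := isIrr_apply_one (ψ b).2
    have hd' : (cj (ψ b) : X → ℂ) 1 = d := by
      show (starRingEnd ℂ) ((ψ b : X → ℂ) 1) = d
      rw [hd, Complex.conj_natCast]
    have h3 := hψ b (tab e).i0
    rw [(tab e).hi0, hd, hd'] at h3
    have h4 : (d : ℤ) + (d : ℤ) = P b (rc 0) := by exact_mod_cast h3
    have h5 : ((if s then ψ b else cj (ψ b) : IrrCharacter X) : X → ℂ) 1 = ((d : ℤ) : ℂ) := by
      rcases s with _ | _
      · exact hd'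
      · exact hd
    rw [Table.degree_eq h5, ← hdP b]
    show _ = (P b (rc 0)).toNat / 2
    rw [← h4]
    omega
  constructor
  · rintro ⟨η, hη⟩
    obtain ⟨z, rfl⟩ := hbij.2 η
    rcases z with a | p
    · exact Or.inl ⟨a, (h1 a).symm.trans hη⟩
    · exact Or.inr ⟨p.1, (h2 p).symm.trans hη⟩
  · rintro (⟨a, rfl⟩ | ⟨b, rfl⟩)
    · exact ⟨χ a, h1 a⟩
    · exact ⟨ψ b, h2 (b, true)⟩

theorem chk1 : ∀ a : Fin 12, dR a ∈ degs := by decide +kernel

theorem chk2 : ∀ b : Fin 6, dP b ∈ degs := by decide +kernel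

theorem chk3 : ∀ n ∈ degs, (∃ a : Fin 12, dR a = n) ∨ ∃ b : Fin 6, dP b = n := by decide +kernel

/-- **The degrees of `McL`** -/
theorem mem_iff {X : Type u} [Group X] [Finite X] (h : Spor.IsoMcL X) (n : ℕ) : n ∈ charDegrees X ↔ n ∈ degs := by
  rw [hdeg h]
  constructor
  · rintro (⟨a, rfl⟩ | ⟨b, rfl⟩)
    · exact chk1 a
    · exact chk2 b
  · exact chk3 n

theorem chk5 : ∀ a a' : Fin 12, a ≠ a' → dR a = dR a' →
    dR a ∈ ([770, 896, 3520, 8019, 8250, 9856, 10395] : List ℕ) := by decide +kernel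

theorem chk6 : ∀ (a : Fin 12) (b : Fin 6), dR a ≠ dP b := by decide +kernel

theorem chk7 : ∀ b : Fin 6, dP b ∈ ([770, 896, 3520, 8019, 8250, 9856, 10395] : List ℕ) := by decide +kernel

/-- the number of irreducible characters of a degree is one, except for `3520` and the six degrees of the non-real
characters: **a degree shared by two different irreducible characters** -/
theorem two_of_degree {X : Type u} [Group X] [Finite X] (h : Spor.IsoMcL X) {χ χ' : IrrCharacter X} (hne : χ ≠ χ')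
    (hd : charDegree (χ : X → ℂ) = charDegree (χ' : X → ℂ)) :
    charDegree (χ : X → ℂ) ∈ ([770, 896, 3520, 8019, 8250, 9856, 10395] : List ℕ) := by
  obtain ⟨e⟩ := exists_e h
  obtain ⟨ρ, ψ, hρ, hψ, -, hbij⟩ := (tab e).exists_irr
  have h1 : ∀ a, charDegree (ρ a : X → ℂ) = dR a := fun a => by
    rw [← hdR a]
    exact Table.degree_eq (by rw [← (tab e).hi0]; exact hρ a 0)
  have h2 : ∀ p : Fin 6 × Bool, charDegree ((if p.2 then ψ p.1 else cj (ψ p.1) : IrrCharacter X) : X → ℂ) =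
      dP p.1 := by
    rintro ⟨b, s⟩
    obtain ⟨d, -, hd⟩ := isIrr_apply_one (ψ b).2
    have hd' : (cj (ψ b) : X → ℂ) 1 = d := by
      show (starRingEnd ℂ) ((ψ b : X → ℂ) 1) = d
      rw [hd, Complex.conj_natCast]
    have h3 := hψ b (tab e).i0
    rw [(tab e).hi0, hd, hd'] at h3
    have h4 : (d : ℤ) + (d : ℤ) = P b (rc 0) := by exact_mod_cast h3
    have h5 : ((if s then ψ b else cj (ψ b) : IrrCharacter X) : X → ℂ) 1 = ((d : ℤ) : ℂ) := by
      rcases s with _ | _
      · exact hd'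
      · exact hd
    rw [Table.degree_eq h5, ← hdP b]
    show _ = (P b (rc 0)).toNat / 2
    rw [← h4]
    omega
  obtain ⟨z, rfl⟩ := hbij.2 χ
  obtain ⟨z', rfl⟩ := hbij.2 χ'
  have hz : z ≠ z' := fun hz => hne (by rw [hz])
  rcases z with a | p
  · rcases z' with a' | p'
    · have h3 : dR a = dR a' := (h1 a).symm.trans (hd.trans (h1 a'))
      have h4 : charDegree ((Sum.elim ρ (fun p : Fin 6 × Bool => if p.2 then ψ p.1 else cj (ψ p.1)) (Sum.inl a) :
          IrrCharacter X) : X → ℂ) = dR a := h1 a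
      rw [h4]
      exact chk5 a a' (fun h => hz (by rw [h])) h3
    · exact absurd ((h1 a).symm.trans (hd.trans (h2 p'))) (chk6 a p'.1)
  · have h4 : charDegree ((Sum.elim ρ (fun p : Fin 6 × Bool => if p.2 then ψ p.1 else cj (ψ p.1)) (Sum.inr p) :
        IrrCharacter X) : X → ℂ) = dP p.1 := h2 p
    rw [h4]
    exact chk7 p.1

/-- the number of classes -/
theorem card_classes {X : Type u} [Group X] [Finite X] (h : Spor.IsoMcL X) : Nat.card (ConjClasses X) = 24 := by
  obtain ⟨e⟩ := exists_e h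
  exact (clT e).card_classes

theorem card_McL {X : Type u} [Group X] [Finite X] (h : Spor.IsoMcL X) : Nat.card X = 898128000 := by
  obtain ⟨e⟩ := exists_e h
  exact card_G e

end Cfsg.Agent.H517.S8.McLDeg
end

-- part: H757/S8/McLF
section
/-!
# S4908, FROB for `McL`: the elements (helper757)

* `five` : the centralizers of the elements of order 5 have order 25 or 750;
* `eight`, `nine` : a 2-element, a 3-element with centralizer of order at most 8, 27;
* `frob` : the Frobenius group `11:5`, the elements of order 5 have centralizer of order 25.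
-/

set_option autoImplicit false
set_option maxRecDepth 100000

namespace Cfsg.Agent.H757.S8.McL

open Subgroup Equiv Cfsg.Agent.SporadicA.PermTab Cfsg.Agent.H904.McLCent Cfsg.Agent.McLType.X275 Cfsg.Agent.McLType.Gens
  Cfsg.Agent.McLType.Model Cfsg.Agent.H359.CT Cfsg.Agent.H359.CT.McL
open Cfsg.Agent.H686.Odd.McL (c card_cent_of_mem card_cent_conj order_c type_b)
open Cfsg.Agent.H35.TI (P5 card_P5 card_c card_a card_cent_noncentral)

/-- an element of order 5 normalizing the element `t11` -/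
def z5 : ℕ := 0x414731011f63dc8605c0e6348850e80d41f0100a30de2682c8d02202484c8bf10443c5c8b4150434888c60c03b0890c3138308798121a63847488a1be1a06c90620e2bc4f0a00ea2946e02920618c330761122dc6f1041ae1d01c0a71964202890910a1ac270d81ca060480fc1ce3e02482d06e1f8228421801dc2d8ca004358510701522b86e81c00c24c390ff1564384788017a3345a8eb0283545807f21613c4386d1fa148268fe128408370560ba15c4887b02219c7789714c1c45201e0aa344078ba1ec2047d0aa076368628190683d07185f0f0058780cc0420e8670ee016274130960541506483308e1007683604e1304f8231080140e88305e168560e00121184a8791161b0298db04401c0f8ad188304098e20c8230800bc1e40fc5c0c70502202f0860b0188678080962385b07d1ea0c81e8e402e128158bb0581040504417c2346a0b30ca3a83080e13600c5900019010c1800c1f206c2402505c068120310723c41f07a0a02c44c03c0080540806901a0d450801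
def z5i : ℕ := 0x3c47a8ff1f42a87b10d13e424660ce1c6390890d41b6258880451582604d8c421e2040b8c221c20c1987a1da10c0707511a1c0328f214808874908186444638300f2120750581ce354588dd0a01f8728c81a62d8510251d6428431000721c45307419e2e03481b0803d03e84b1e03b8250bb1f809c538440582107c8411ac0d4528f8048074050a11c42c826059156200598f71a022c6f0892082d4008e00c2384370ef03e4087e8091181b02a89715c3f8488c51520d8130460a63a06b83e13a0f06585f0b83ec410a81402f81a1061200302a0771743606f8d22162b4450b42062544e05219441c020e611c364118471b40e8108f30f00f44990c1721688083b1242504386a0a22686680b13c3244c86206e0b8608150ce1585e8280342f015066084034188080fe1c8078d117e1900107b0d00c8080190b604c6002b05a1ac6e03f0c61b40a0110c013c3990509a2202e8b002c0483e0c605e1d8030a30923b04780510a080018180de0a42b83809c2bc2f00703c2dc0001c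

theorem z5_chk : chkInv 275 z5 z5i = true := by decide +kernel
theorem z5_rows : chkAutBlk 275 adjM z5 0 275 = true := by decide +kernel
theorem z5_five : chkPow 275 z5 5 = true := by decide +kernel
theorem z5_rel : allB (fun i => Nat.beq (lk z5 (lk t11 i)) (lk t11 (lk t11 (lk t11 (lk t11 (lk z5 i)))))) 275 = true := by
  decide +kernel
theorem z5_fix : ∃ i : Fin 275, lk z5 i = i := by decide +kernel
theorem z5_mov : ∃ i : Fin 275, lk z5 i ≠ i := by decide +kernel

theorem exists_z5 : ∃ t ∈ Hh, ∀ i : Fin 275, (t i : ℕ) = lk z5 i :=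
  ⟨mkPerm z5 z5i z5_chk, mkPerm_mem_autG z5_chk (rowsOK_of_chk (chkInv_lt z5_chk) (chkInv_inj z5_chk) z5_rows),
    fun _ => rfl⟩

/-- the centralizers of the elements of order 5 -/
theorem five {y : G1} (hy : orderOf y = 5) :
    Nat.card (centralizer ({y} : Set G1)) = 25 ∨ Nat.card (centralizer ({y} : Set G1)) = 750 := by
  have : Fact (Nat.Prime 5) := ⟨Nat.prime_five⟩
  have h1 : IsPGroup 5 (zpowers y) := IsPGroup.of_card (n := 1) (by rw [Nat.card_zpowers, hy, pow_one])
  obtain ⟨Q, hQ⟩ := h1.exists_le_sylow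
  have h125 : (898128000 : ℕ).factorization 5 = 3 := by
    rw [show (898128000 : ℕ) = 5 ^ 3 * 7185024 by norm_num, Nat.factorization_mul (by norm_num) (by norm_num),
      Nat.Prime.factorization_pow Nat.prime_five]
    simp [Nat.factorization_eq_zero_of_not_dvd]
  let P : Sylow 5 G1 := Sylow.ofCard P5 (by rw [card_P5, card_G1, h125]; norm_num)
  obtain ⟨g, hg⟩ := MulAction.exists_smul_eq G1 Q P
  have h2 : g * y * g⁻¹ ∈ P5 := by
    have h3 : ((g • Q : Sylow 5 G1) : Subgroup G1) = P5 := by rw [hg]; rfl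
    rw [← h3, Sylow.coe_subgroup_smul]
    exact (Subgroup.smul_mem_pointwise_smul y (MulAut.conj g) (Q : Subgroup G1) (hQ (mem_zpowers y)) :)
  by_cases h3 : g * y * g⁻¹ ∈ zpowers c
  · right
    rw [card_cent_of_mem Nat.prime_five order_c (by
      rintro rfl
      rw [orderOf_one] at hy
      norm_num at hy) h3]
    exact card_c
  · left
    rw [← card_cent_conj g y, card_cent_noncentral h2 h3]
    exact card_a

/-! ### pulling back -/

theorem pull {g : Perm (Fin 275)} (hg : g ∈ K0) : ∃ x : G1, ψ x = g := by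
  rw [← range_ψ] at hg
  exact hg

/-- the centralizers -/
theorem card_cent_e {A B : Type*} [Group A] [Group B] (e : A ≃* B) (x : A) :
    Nat.card (centralizer ({e x} : Set B)) = Nat.card (centralizer ({x} : Set A)) := by
  symm
  refine Nat.card_congr ⟨fun y => ⟨e y, ?_⟩, fun y => ⟨e.symm y, ?_⟩, fun y => ?_, fun y => ?_⟩
  · have h := mem_centralizer_singleton_iff.1 y.2
    rw [mem_centralizer_singleton_iff, ← map_mul, ← map_mul, h]
  · have h := mem_centralizer_singleton_iff.1 y.2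
    rw [mem_centralizer_singleton_iff]
    apply e.injective
    rw [map_mul, map_mul, e.apply_symm_apply, h]
  · exact Subtype.ext (e.symm_apply_apply _)
  · exact Subtype.ext (e.apply_symm_apply _)

theorem exists_of_gs (i : Fin 18) {m : ℕ} (hm : cs i = m) {k : ℕ} (hk : chkPow 275 (XT i) k = true) :
    ∃ x : G1, x ^ k = 1 ∧ Nat.card (centralizer ({x} : Set G1)) ≤ m := by
  refine ⟨eK0.symm (gs i), ?_, ?_⟩
  · rw [← map_pow]
    have h : (gs i) ^ k = 1 := Subtype.ext (pow_of_chk (gs_spec i) hk)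
    rw [h, map_one]
  · rw [card_cent_e, ← hm]
    exact cent_le i

theorem eight : ∃ x : G1, x ^ 2 ^ 3 = 1 ∧ Nat.card (centralizer ({x} : Set G1)) ≤ 8 :=
  exists_of_gs 10 rfl (by decide +kernel)

theorem nine : ∃ x : G1, x ^ 3 ^ 2 = 1 ∧ Nat.card (centralizer ({x} : Set G1)) ≤ 27 :=
  exists_of_gs 11 rfl (by decide +kernel)

/-- the Frobenius group of order 55 -/
theorem frob : ∃ u z : G1, orderOf u = 11 ∧ orderOf z = 5 ∧ z * u = u ^ 4 * z ∧
    Nat.card (centralizer ({z} : Set G1)) = 25 := by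
  have : Fact (Nat.Prime 5) := ⟨Nat.prime_five⟩
  have : Fact (Nat.Prime 11) := ⟨by norm_num⟩
  obtain ⟨w, hw, hwi⟩ := exists_z5
  have hw5 : w ^ 5 = 1 := pow_of_chk hwi z5_five
  have hwK : w ∈ K0 := by
    have h1 : w * w ∈ K0 := (two.mul_mem_iff hw hw).2 Iff.rfl
    have h2 : w = (w * w) * ((w * w) * (w * w)) := by
      have : w * w * (w * w * (w * w)) = w ^ 5 * w := by simp only [pow_succ, pow_zero, one_mul, mul_assoc]
      rw [this, hw5, one_mul]
    rw [h2]
    exact K0.mul_mem h1 (K0.mul_mem h1 h1)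
  obtain ⟨v, hv, hvi⟩ := inT11
  obtain ⟨z, rfl⟩ := pull hwK
  obtain ⟨u, rfl⟩ := pull hv
  have hz : orderOf z = 5 := by
    apply orderOf_eq_prime
    · apply ψ_injective
      rw [map_pow, hw5, map_one]
    · rintro rfl
      obtain ⟨i, hi⟩ := z5_mov
      apply hi
      rw [← hwi, map_one, Perm.one_apply]
  have hv11 : (ψ u) ^ 11 = 1 := by
    refine Equiv.ext fun i => Fin.ext ?_
    rw [pow_val hvi, Perm.one_apply]
    exact Nat.eq_of_beq_eq_true ((allB_iff _ _).1 e11g i i.2)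
  have hu : orderOf u = 11 := by
    apply orderOf_eq_prime
    · apply ψ_injective
      rw [map_pow, hv11, map_one]
    · rintro rfl
      have h1 : lk t11 (0 : Fin 275) ≠ (0 : Fin 275) := by decide +kernel
      apply h1
      rw [← hvi, map_one, Perm.one_apply]
  refine ⟨u, z, hu, hz, ?_, ?_⟩
  · apply ψ_injective
    refine Equiv.ext fun i => Fin.ext ?_
    have h1 := Nat.eq_of_beq_eq_true ((allB_iff _ _).1 z5_rel i i.2)
    rw [map_mul, map_mul, map_pow, Perm.mul_apply, Perm.mul_apply, hwi, hvi, h1]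
    simp only [pow_succ, pow_zero, one_mul, Perm.mul_apply, hvi, hwi]
  · rcases five hz with h | h
    · exact h
    · exfalso
      obtain ⟨i, hi⟩ := z5_fix
      have h1 := type_b hz (i := i) (Fin.ext (by rw [hwi, hi]))
      omega

end Cfsg.Agent.H757.S8.McL
end

-- part: H757/S8/McLNo
section
/-!
# S4908, FROB for `McL`: no subgroup of index 45 (helper757)
-/

set_option autoImplicit false

namespace Cfsg.Agent.H757.S8.McL

open Subgroup Cfsg.Agent.H904.McLCent Cfsg.Agent.McLType.X275 Cfsg.Agent.H359.CT Cfsg.Agent.H359.CT.McL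

theorem sub_eq {G : Type*} [Group G] (T : Subgroup G) (P : Subgroup T) {n : T} (hn : n ∈ normalizer (P : Set T)) :
    (n : G) ∈ normalizer ((P.map T.subtype : Subgroup G) : Set G) := by
  rw [mem_normalizer_iff] at hn ⊢
  intro g
  constructor
  · rintro ⟨x, hx, rfl⟩
    exact ⟨n * x * n⁻¹, (hn x).1 hx, rfl⟩
  · rintro ⟨y, hy, hy'⟩
    refine ⟨n⁻¹ * y * n, (hn _).2 (by rw [show n * (n⁻¹ * y * n) * n⁻¹ = y by group]; exact hy), ?_⟩
    rw [coe_subtype] at hy'
    rw [coe_subtype, coe_mul, coe_mul, hy', coe_inv]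
    group

theorem norm_le {G : Type*} [Group G] (P : Subgroup G) :
    normalizer (P : Set G) ≤ normalizer ((centralizer (P : Set G) : Subgroup G) : Set G) := by
  have key : ∀ n ∈ normalizer (P : Set G), ∀ x ∈ centralizer (P : Set G), n * x * n⁻¹ ∈ centralizer (P : Set G) := by
    intro n hn x hx
    rw [mem_centralizer_iff] at hx ⊢
    intro h hh
    have h1 : n⁻¹ * h * n ∈ (P : Set G) := by
      rw [SetLike.mem_coe]
      have := (mem_normalizer_iff.1 (inv_mem hn) h).1 hh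
      rwa [inv_inv] at this
    have h2 := hx _ h1
    calc h * (n * x * n⁻¹) = n * (n⁻¹ * h * n * x) * n⁻¹ := by group
      _ = n * (x * (n⁻¹ * h * n)) * n⁻¹ := by rw [h2]
      _ = n * x * n⁻¹ * h := by group
  intro n hn
  rw [mem_normalizer_iff]
  intro x
  refine ⟨key n hn x, fun h => ?_⟩
  have := key n⁻¹ (inv_mem hn) _ h
  rwa [show n⁻¹ * (n * x * n⁻¹) * n⁻¹⁻¹ = x by group] at this

theorem card_sub_dvd {G : Type*} [Group G] [Finite G] (T : Subgroup G) (P : Subgroup T) :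
    Nat.card (normalizer (P : Set T)) ∣ Nat.card (normalizer ((P.map T.subtype : Subgroup G) : Set G)) := by
  rw [← Subgroup.card_map_of_injective (K := normalizer (P : Set T)) T.subtype_injective]
  apply Subgroup.card_dvd_of_le
  rintro _ ⟨n, hn, rfl⟩
  exact sub_eq T P hn

theorem card_cent_seven {y : G1} (hy : orderOf y = 7) : Nat.card (centralizer ({y} : Set G1)) = 14 := by
  have h7 : ¬ 7 ^ 2 ∣ Nat.card G1 := by rw [card_G1]; norm_num
  set w := eK0.symm (gs 15) with hw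
  have hwo : orderOf w = 14 := by rw [hw, MulEquiv.orderOf_eq]; exact order_14
  have hx : orderOf (w ^ 2) = 7 := by rw [orderOf_pow_of_dvd (by norm_num) (by rw [hwo]; norm_num), hwo]
  obtain ⟨u, hu⟩ := Cfsg.Agent.H1.RealTool.exists_conj_mem_zpowers (by norm_num : Nat.Prime 7) h7 hx hy
  have h1 : Nat.card (centralizer ({y} : Set G1)) = Nat.card (centralizer ({w ^ 2} : Set G1)) :=
    Cfsg.Agent.H686.Odd.McL.card_cent_of_mem (by norm_num) hx (by
      rintro rfl
      rw [orderOf_one] at hy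
      norm_num at hy) hu
  have h2 : 14 ∣ Nat.card (centralizer ({w ^ 2} : Set G1)) := by
    have h3 : w ∈ centralizer ({w ^ 2} : Set G1) := mem_centralizer_singleton_iff.2 (by rw [← pow_succ, ← pow_succ'])
    have := _root_.orderOf_dvd_natCard (⟨w, h3⟩ : centralizer ({w ^ 2} : Set G1))
    rwa [Subgroup.orderOf_mk, hwo] at this
  rw [← h1] at h2
  exact Nat.dvd_antisymm (Cfsg.Agent.H686.Odd.McL.seven_dvd hy) h2

/-- **no subgroup of index 45** -/
theorem no45 (T : Subgroup G1) : Nat.card T ≠ 19958400 := by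
  intro hT
  have f7 : Fact (Nat.Prime 7) := ⟨by norm_num⟩
  have f11 : Fact (Nat.Prime 11) := ⟨by norm_num⟩
  have m7 : (19958400 : ℕ).factorization 7 = 1 := by
    rw [show (19958400 : ℕ) = 7 ^ 1 * 2851200 by norm_num, Nat.factorization_mul (by norm_num) (by norm_num),
      Nat.Prime.factorization_pow (by norm_num)]
    simp [Nat.factorization_eq_zero_of_not_dvd]
  let P : Sylow 7 T := default
  have hP : Nat.card P = 7 := by rw [P.card_eq_multiplicity, hT, m7, pow_one]
  set P' : Subgroup G1 := ((P : Subgroup T).map T.subtype :) with hP'd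
  have hP' : Nat.card P' = 7 := by rw [hP'd, Subgroup.card_map_of_injective T.subtype_injective]; exact hP
  obtain ⟨-, hN⟩ := seven isoMcL_G1 P' hP'
  have hC : Nat.card (centralizer (P' : Set G1)) = 14 := by
    obtain ⟨y, hy⟩ := exists_prime_orderOf_dvd_card' (G := P') 7 (by rw [hP'])
    have hyo : orderOf (y : G1) = 7 := by rw [Subgroup.orderOf_coe, hy]
    have h1 : zpowers (y : G1) = P' := by
      apply Subgroup.eq_of_le_of_card_ge (by rw [zpowers_le]; exact y.2)
      rw [Nat.card_zpowers, hyo, hP']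
    rw [← h1, Cfsg.Agent.H904.SylOne.centralizer_zpowers_eq]
    exact card_cent_seven hyo
  -- the normalizer in `T`
  have hd : Nat.card (normalizer ((P : Subgroup T) : Set T)) ∣ 42 := by
    rw [← hN]
    exact card_sub_dvd T _
  have h7N : 7 ∣ Nat.card (normalizer ((P : Subgroup T) : Set T)) := by
    have h := Subgroup.card_dvd_of_le (le_normalizer : (P : Subgroup T) ≤ normalizer ((P : Subgroup T) : Set T))
    rwa [hP] at h
  have hmod : (normalizer ((P : Subgroup T) : Set T)).index % 7 = 1 := by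
    have h1 := card_sylow_modEq_one 7 T
    rw [P.card_eq_index_normalizer] at h1
    exact h1
  have hmul := (normalizer ((P : Subgroup T) : Set T)).card_mul_index
  rw [hT] at hmul
  have h14 : Nat.card (normalizer ((P : Subgroup T) : Set T)) = 14 := by
    obtain ⟨k, hk⟩ := h7N
    rw [hk] at hd hmul ⊢
    have hk6 : k ∣ 6 := Nat.dvd_of_mul_dvd_mul_left (by norm_num : 0 < 7) (by simpa only [_root_.Nat.reduceMul] using hd)
    have : k ≤ 6 := Nat.le_of_dvd (by norm_num) hk6
    interval_cases k <;> (clear * - hmul hmod; omega)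
  -- the centralizer
  have hNC : normalizer ((P : Subgroup T) : Set T) ≤ centralizer ((P : Subgroup T) : Set T) := by
    intro n hn
    have hn14 : n ^ 14 = 1 := by
      have h1 := pow_card_eq_one' (G := normalizer ((P : Subgroup T) : Set T)) (x := ⟨n, hn⟩)
      rw [h14] at h1
      exact congrArg Subtype.val h1
    have hn' := sub_eq T _ hn
    have hnorm : ((centralizer (P' : Set G1)).subgroupOf (normalizer (P' : Set G1))).Normal :=
      normal_subgroupOf_of_le_normalizer (norm_le P')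
    have hi : ((centralizer (P' : Set G1)).subgroupOf (normalizer (P' : Set G1))).index = 3 := by
      have h1 := ((centralizer (P' : Set G1)).subgroupOf (normalizer (P' : Set G1))).card_mul_index
      rw [Nat.card_congr (subgroupOfEquivOfLe (centralizer_le_normalizer _)).toEquiv, hC, hN] at h1
      omega
    have h1 := pow_index_mem ((centralizer (P' : Set G1)).subgroupOf (normalizer (P' : Set G1)))
      (⟨n, hn'⟩ : normalizer (P' : Set G1))
    rw [hi, mem_subgroupOf] at h1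
    have h2 : ((n : G1)) ^ 3 ∈ centralizer (P' : Set G1) := h1
    have h3 : (n : G1) ∈ centralizer (P' : Set G1) := by
      have h4 : ((n : G1) ^ 3) ^ 5 = n := by
        have h5 : (n : G1) ^ 14 = 1 := congrArg Subtype.val hn14
        rw [← pow_mul, show 3 * 5 = 14 + 1 by norm_num, pow_succ, h5, one_mul]
      rw [← h4]
      exact pow_mem h2 5
    rw [mem_centralizer_iff]
    intro y hy
    exact Subtype.ext (mem_centralizer_iff.1 h3 y ⟨y, hy, rfl⟩)
  have hcomp := MonoidHom.ker_transferSylow_isComplement' P hNC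
  set K := (MonoidHom.transferSylow P hNC).ker with hK
  have hKc : K.index = 7 := by rw [← hP]; exact hcomp.symm.index_eq_card
  have h11K : 11 ∣ Nat.card K := by
    have h1 := K.card_mul_index
    rw [hKc, hT] at h1
    omega
  let Q : Sylow 11 K := default
  have m11 : (2851200 : ℕ).factorization 11 = 1 := by
    rw [show (2851200 : ℕ) = 11 ^ 1 * 259200 by norm_num, Nat.factorization_mul (by norm_num) (by norm_num),
      Nat.Prime.factorization_pow (by norm_num)]
    simp [Nat.factorization_eq_zero_of_not_dvd]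
  have hQ : Nat.card Q = 11 := by
    have h1 := K.card_mul_index
    rw [hKc, hT] at h1
    rw [Q.card_eq_multiplicity, show Nat.card K = 2851200 by omega, m11, pow_one]
  set Q1 : Subgroup T := ((Q : Subgroup K).map K.subtype :) with hQ1
  have hfr := Sylow.normalizer_sup_eq_top Q
  have hQ2 : Nat.card (Q1.map T.subtype) = 11 := by
    rw [Subgroup.card_map_of_injective T.subtype_injective, hQ1, Subgroup.card_map_of_injective K.subtype_injective]
    exact hQ
  obtain ⟨-, hN11⟩ := eleven isoMcL_G1 (Q1.map T.subtype) hQ2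
  have h55 : Nat.card (normalizer (Q1 : Set T)) ∣ 55 := by
    rw [← hN11]
    exact card_sub_dvd T _
  have h7 : 7 ∣ Nat.card (normalizer (Q1 : Set T)) := by
    have h1 : K.relIndex (normalizer (Q1 : Set T)) = K.index := by
      rw [← relIndex_top_right, ← hfr, relIndex_sup_right]
    rw [← hKc, ← h1]
    exact relIndex_dvd_card _ _
  have := h7.trans h55
  norm_num at this

end Cfsg.Agent.H757.S8.McL
end

-- part: H757/S8/McLStr
section
/-!
# S4908, FROB for `McL`: the `{2,3,5}`-subgroups (helper757)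

`z` of order 5, `|C(z)| = 25`, the centralizers of the elements of order 5 have order 25 or 750: a `{2,3,5}`-subgroup of
order divisible by 25 containing `z` has order at most 93000.
-/

set_option autoImplicit false

namespace Cfsg.Agent.H757.S8

open Subgroup

section Act

variable {X : Type*} [Group X]

/-- the action by conjugation on the nontrivial elements -/
@[reducible] def act (A M : Subgroup X) (hA : A ≤ normalizer (M : Set X)) : MulAction A {m : X // m ∈ M ∧ m ≠ 1} where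
  smul a m := ⟨(a : X) * m.1 * (a : X)⁻¹, (mem_normalizer_iff.1 (hA a.2) m.1).1 m.2.1, fun h0 => m.2.2 (by
    rw [mul_inv_eq_one] at h0
    simpa using h0)⟩
  one_smul m := Subtype.ext (by
    change ((1 : A) : X) * m.1 * ((1 : A) : X)⁻¹ = m.1
    rw [coe_one]; group)
  mul_smul a b m := Subtype.ext (by
    change ((a * b : A) : X) * m.1 * ((a * b : A) : X)⁻¹ = (a : X) * ((b : X) * m.1 * (b : X)⁻¹) * (a : X)⁻¹
    rw [coe_mul]; group)

theorem card_ne_one [Finite X] (M : Subgroup X) : Nat.card {m : X // m ∈ M ∧ m ≠ 1} = Nat.card M - 1 := by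
  classical
  have := Fintype.ofFinite M
  have e : {m : X // m ∈ M ∧ m ≠ 1} ≃ {m : M // ¬ m = 1} :=
    ⟨fun m => ⟨⟨m.1, m.2.1⟩, fun h => m.2.2 (congrArg Subtype.val h)⟩, fun m => ⟨m.1.1, m.1.2, fun h => m.2 (Subtype.ext h)⟩,
      fun _ => rfl, fun _ => rfl⟩
  rw [Nat.card_congr e, Nat.card_eq_fintype_card, Fintype.card_subtype_compl, Fintype.card_subtype_eq,
    Nat.card_eq_fintype_card]

theorem fpf_dvd [Finite X] (A M : Subgroup X) (hA : A ≤ normalizer (M : Set X))
    (h : ∀ a ∈ A, a ≠ 1 → ∀ m ∈ M, a * m = m * a → m = 1) : Nat.card A ∣ Nat.card M - 1 := by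
  let _ := act A M hA
  have hst : ∀ m : {m : X // m ∈ M ∧ m ≠ 1}, MulAction.stabilizer A m = ⊥ := by
    intro m
    rw [eq_bot_iff]
    intro a ha
    rw [mem_bot]
    by_contra hne
    have h1 : (a : X) * m.1 * (a : X)⁻¹ = m.1 := congrArg Subtype.val (MulAction.mem_stabilizer_iff.1 ha)
    exact m.2.2 (h a a.2 (fun h0 => hne (Subtype.ext h0)) m.1 m.2.1 (mul_inv_eq_iff_eq_mul.1 h1))
  have e := Nat.card_congr (MulAction.selfEquivOrbitsQuotientProd hst)
  rw [card_ne_one, Nat.card_prod] at e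
  exact ⟨_, by rw [e]; ring⟩

theorem card_le_cent [Finite X] (A M : Subgroup X) (hA : A ≤ normalizer (M : Set X)) {y : X} (hy : y ∈ M) (h1 : y ≠ 1) :
    Nat.card A ≤ (Nat.card M - 1) * Nat.card (centralizer ({y} : Set X)) := by
  classical
  let _ := act A M hA
  let m : {m : X // m ∈ M ∧ m ≠ 1} := ⟨y, hy, h1⟩
  have e := MulAction.index_stabilizer A m
  have h2 : Nat.card A = (MulAction.stabilizer A m).index * Nat.card (MulAction.stabilizer A m) :=
    (Subgroup.index_mul_card _).symm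
  rw [h2, e]
  apply Nat.mul_le_mul
  · rw [← card_ne_one, ← Set.ncard_univ]
    exact Set.ncard_le_ncard (Set.subset_univ _) (Set.toFinite _)
  · refine Nat.card_le_card_of_injective (fun a => (⟨(a : A), ?_⟩ : centralizer ({y} : Set X))) ?_
    · have h3 : ((a : A) : X) * y * ((a : A) : X)⁻¹ = y := congrArg Subtype.val (MulAction.mem_stabilizer_iff.1 a.2)
      rw [mem_centralizer_singleton_iff]
      exact mul_inv_eq_iff_eq_mul.1 h3
    · intro a b hab
      have := congrArg Subtype.val hab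
      exact Subtype.ext (Subtype.ext this)

end Act

section Str

variable {X : Type} [Group X] [Finite X]

/-- an element of order 5 acting fixed point freely -/
theorem five_dvd_sub {z : X} (hz : orderOf z = 5) {D : Subgroup X} (hD : z ∈ normalizer (D : Set X))
    (h : ∀ m ∈ D, z * m = m * z → m = 1) : 5 ∣ Nat.card D - 1 := by
  have h1 := fpf_dvd (zpowers z) D (by rwa [zpowers_le]) (fun a ha ha1 m hm hc => by
    apply h m hm
    have : Fact (Nat.Prime 5) := ⟨Nat.prime_five⟩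
    have h2 : z ∈ zpowers a := by
      have h3 : zpowers a ≤ zpowers z := by rwa [zpowers_le]
      have h4 : Nat.card (zpowers a) ∣ 5 := by
        rw [← hz, ← Nat.card_zpowers]
        exact Subgroup.card_dvd_of_le h3
      rcases (Nat.dvd_prime Nat.prime_five).1 h4 with h5 | h5
      · exact absurd (zpowers_eq_bot.1 (Subgroup.card_eq_one.1 h5)) ha1
      · have h6 : zpowers a = zpowers z := by
          apply Subgroup.eq_of_le_of_card_ge h3
          rw [h5, Nat.card_zpowers, hz]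
        rw [h6]
        exact mem_zpowers z
    obtain ⟨k, rfl⟩ := h2
    exact ((show Commute a m from hc).zpow_left k).eq)
  rwa [Nat.card_zpowers, hz] at h1

/-- the powers of 2 and 3 -/
theorem pow_cases {r j : ℕ} (h : (r = 2 ∧ j ≤ 7) ∨ (r = 3 ∧ j ≤ 6)) (hj : j ≠ 0) (h5 : 5 ∣ r ^ j - 1) :
    r ^ j = 16 ∨ r ^ j = 81 := by
  rcases h with ⟨rfl, h⟩ | ⟨rfl, h⟩ <;> interval_cases j <;> simp_all only [_root_.ne_eq, _root_.not_true_eq_false, _root_.one_ne_zero, _root_.not_false_eq_true, _root_.Nat.one_le_ofNat, _root_.pow_one, _root_.Nat.add_one_sub_one, _root_.Nat.dvd_one, _root_.OfNat.ofNat_ne_one, _root_.OfNat.ofNat_ne_zero, _root_.Nat.reduceLeDiff, _root_.Nat.reducePow, _root_.Nat.reduceDvd, _root_.Nat.reduceEqDiff, _root_.or_false, _root_.Std.le_refl, _root_.or_true]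

theorem no_rgroup (hX : Nat.card X ∣ 2 ^ 7 * 3 ^ 6 * 5 ^ 3 * 7 * 11)
    (h5 : ∀ y : X, orderOf y = 5 → Nat.card (centralizer ({y} : Set X)) = 25 ∨ Nat.card (centralizer ({y} : Set X)) = 750)
    {z : X} (hz : orderOf z = 5) (hc : Nat.card (centralizer ({z} : Set X)) = 25) {M : Subgroup X} (hM : M ≠ ⊥)
    (hn : centralizer ({z} : Set X) ≤ normalizer (M : Set X)) {r : ℕ} (hr : r = 2 ∨ r = 3) (hp : IsPGroup r M) : False := by
  have hrp : Fact r.Prime := ⟨by rcases hr with rfl | rfl <;> norm_num⟩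
  have hzz : z ∈ centralizer ({z} : Set X) := mem_centralizer_singleton_iff.2 rfl
  -- no common elements
  have hfix : ∀ m ∈ M, z * m = m * z → m = 1 := by
    intro m hm hzm
    have h1 : m ∈ centralizer ({z} : Set X) := mem_centralizer_singleton_iff.2 hzm.symm
    have h2 : orderOf m ∣ 25 := by
      have := _root_.orderOf_dvd_natCard (⟨m, h1⟩ : centralizer ({z} : Set X))
      rwa [Subgroup.orderOf_mk, hc] at this
    obtain ⟨k, hk⟩ := hp ⟨m, hm⟩
    have h3 : orderOf m ∣ r ^ k := orderOf_dvd_of_pow_eq_one (congrArg Subtype.val hk)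
    have h4 : Nat.Coprime 25 (r ^ k) := Nat.Coprime.pow_right _ (by rcases hr with rfl | rfl <;> norm_num)
    exact orderOf_eq_one_iff.1 (Nat.eq_one_of_dvd_coprimes h4 h2 h3)
  have hpow : ∀ D : Subgroup X, D ≤ M → D ≠ ⊥ → z ∈ normalizer (D : Set X) → Nat.card D = 16 ∨ Nat.card D = 81 := by
    intro D hDM hD hzD
    obtain ⟨j, hj⟩ := (hp.to_le hDM).exists_card_eq
    have h1 := five_dvd_sub hz hzD (fun m hm => hfix m (hDM hm))
    rw [hj] at h1 ⊢
    refine pow_cases ?_ ?_ h1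
    · have h2 : r ^ j ∣ 2 ^ 7 * 3 ^ 6 * 5 ^ 3 * 7 * 11 := by
        rw [← hj]; exact (Subgroup.card_subgroup_dvd_card D).trans hX
      rcases hr with rfl | rfl
      · left
        refine ⟨rfl, ?_⟩
        by_contra hcon
        have := (pow_dvd_pow 2 (show 8 ≤ j by omega)).trans h2
        norm_num at this
      · right
        refine ⟨rfl, ?_⟩
        by_contra hcon
        have := (pow_dvd_pow 3 (show 7 ≤ j by omega)).trans h2
        norm_num at this
    · rintro rfl
      exact hD (Subgroup.card_eq_one.1 (by rw [hj, pow_zero]))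
  have h16 := hpow M le_rfl hM (hn hzz)
  have key : ∃ a ∈ centralizer ({z} : Set X), a ≠ 1 ∧ ∃ m ∈ M, a * m = m * a ∧ m ≠ 1 := by
    by_contra hcon
    push Not at hcon
    have h1 := fpf_dvd (centralizer ({z} : Set X)) M hn (fun a ha ha1 m hm hc => hcon a ha ha1 m hm hc)
    rw [hc] at h1
    rcases h16 with h | h <;> rw [h] at h1 <;> norm_num at h1
  obtain ⟨a, ha, ha1, m, hm, hcomm, hm1⟩ := key
  have hao : orderOf a ∣ 5 ^ 2 := by
    have := _root_.orderOf_dvd_natCard (⟨a, ha⟩ : centralizer ({z} : Set X))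
    rwa [Subgroup.orderOf_mk, hc, show 25 = 5 ^ 2 by norm_num] at this
  obtain ⟨k, hk2, hk⟩ := (Nat.dvd_prime_pow Nat.prime_five).1 hao
  have hk0 : k ≠ 0 := by
    rintro rfl
    exact ha1 (orderOf_eq_one_iff.1 (by rw [hk, pow_zero]))
  have hy : orderOf (a ^ 5 ^ (k - 1)) = 5 := by
    rw [orderOf_pow_of_dvd (by positivity) (by rw [hk]; exact pow_dvd_pow 5 (by omega)), hk,
      Nat.pow_div (by omega) (by norm_num), show k - (k - 1) = 1 by omega, pow_one]
  set y := a ^ 5 ^ (k - 1) with hyd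
  have hyc : y ∈ centralizer ({z} : Set X) := pow_mem ha _
  have hym : y * m = m * y := ((show Commute a m from hcomm).pow_left _).eq
  have hD := hpow (M ⊓ centralizer ({y} : Set X)) inf_le_left (by
    intro h0
    apply hm1
    rw [← mem_bot, ← h0]
    exact ⟨hm, mem_centralizer_singleton_iff.2 hym.symm⟩) (by
    have h1 : z ∈ normalizer ((centralizer ({y} : Set X) : Subgroup X) : Set X) := by
      apply le_normalizer
      exact mem_centralizer_singleton_iff.2 (mem_centralizer_singleton_iff.1 hyc).symm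
    exact inf_normalizer_le_normalizer_inf ⟨hn hzz, h1⟩)
  have hd : Nat.card ↥(M ⊓ centralizer ({y} : Set X)) ∣ Nat.card (centralizer ({y} : Set X)) :=
    Subgroup.card_dvd_of_le inf_le_right
  rcases h5 y hy with h | h <;> rcases hD with h' | h' <;> rw [h, h'] at hd <;> norm_num at hd

/-! ### nonabelian minimal normal subgroups -/

open Cfsg Cfsg.Agent.OrdDiv

/-- the groups are known -/
def Kn : Prop := ∀ (S : Type) [Group S] [Finite S] [IsSimpleGroup S], Cfsg.IsKnownSimple' S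

theorem card_cases (OT : OrderTable.{0}) (hS : Kn) {S : Type} [Group S] [Finite S] [IsSimpleGroup S]
    (hna : ¬ ∀ a b : S, a * b = b * a) (hd : Nat.card S ∣ 11664000) :
    Nat.card S = 60 ∨ Nat.card S = 360 ∨ Nat.card S = 25920 := by
  obtain ⟨g, hg, -, ho⟩ := exists_good OT (hS S) hna (l := [(2, 7), (3, 6), (5, 3)]) (N := 11664000) (by decide +kernel) hd
  have h : ((cands [(2, 7), (3, 6), (5, 3)] 11664000).all fun g =>
      Nat.beq (ordN g) 60 || Nat.beq (ordN g) 360 || Nat.beq (ordN g) 25920) = true := by decide +kernel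
  rw [List.all_eq_true] at h
  have h1 := h g hg
  rw [← ho, Bool.or_eq_true, Bool.or_eq_true] at h1
  rcases h1 with (h1 | h1) | h1
  · exact Or.inl (Nat.eq_of_beq_eq_true h1)
  · exact Or.inr (Or.inl (Nat.eq_of_beq_eq_true h1))
  · exact Or.inr (Or.inr (Nat.eq_of_beq_eq_true h1))

theorem aut_a5 : ¬ 25 ∣ Nat.card (MulAut (alternatingGroup (Fin 5))) := by
  classical
  have h1 : Nat.card (MulAut (alternatingGroup (Fin 5))) ≤ 120 := by
    choose σ hσ using Cfsg.Agent.OddCyclic.EmpFFAlt.exists_conj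
    have hinj : Function.Injective σ := by
      intro e f hef
      ext x
      rw [hσ e x, hσ f x, hef]
    have := Nat.card_le_card_of_injective σ hinj
    rwa [Nat.card_eq_fintype_card (α := Equiv.Perm (Fin 5)), Fintype.card_perm, Fintype.card_fin] at this
  have h60 : Nat.card ↥(alternatingGroup (Fin 5)) = 60 := by
    rw [nat_card_alternatingGroup, Nat.card_eq_fintype_card, Fintype.card_fin]; rfl
  have h2 : 60 ∣ Nat.card (MulAut (alternatingGroup (Fin 5))) := by
    have hk : (MulAut.conj : ↥(alternatingGroup (Fin 5)) →* MulAut ↥(alternatingGroup (Fin 5))).ker = ⊥ := by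
      rw [eq_bot_iff, ← alternatingGroup.center_eq_bot (α := Fin 5) (by rw [Nat.card_eq_fintype_card, Fintype.card_fin]; norm_num)]
      intro x hx
      rw [mem_center_iff]
      intro g
      have h3 := congrArg (fun e : MulAut ↥(alternatingGroup (Fin 5)) => e g) (MonoidHom.mem_ker.1 hx)
      have h4 : x * g * x⁻¹ = g := h3
      calc g * x = x * g * x⁻¹ * x := by rw [h4]
        _ = x * g := by group
    have h5 : Function.Injective (MulAut.conj : ↥(alternatingGroup (Fin 5)) →* MulAut ↥(alternatingGroup (Fin 5))) :=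
      (MonoidHom.ker_eq_bot_iff _).1 hk
    rw [← h60]
    exact Subgroup.card_dvd_of_injective _ h5
  have h3 : 0 < Nat.card (MulAut (alternatingGroup (Fin 5))) := Nat.card_pos
  intro h9
  obtain ⟨k, hk⟩ := h2
  obtain ⟨l, hl⟩ := h9
  omega

theorem aut_60 (OT : OrderTable.{0}) (hS : Kn) {S : Type} [Group S] [Finite S] [IsSimpleGroup S]
    (hna : ¬ ∀ x y : S, x * y = y * x) (h : Nat.card S = 60) : ¬ 25 ∣ Nat.card (MulAut S) := by
  obtain ⟨g, hg, hr⟩ := exists_real_filter OT (hS S) hna (l := [(2, 2), (3, 1), (5, 1)])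
    (N := 60) (by decide +kernel) (by rw [h]) (fun o => Nat.beq o 60) (by rw [h]; rfl)
  rw [show ((cands [(2, 2), (3, 1), (5, 1)] 60).filter fun g => Nat.beq (ordN g) 60) =
    [.alt 5, .psl 2 4, .psl 2 5] by decide +kernel] at hg
  simp only [List.mem_cons, List.not_mem_nil, or_false] at hg
  rcases hg with rfl | rfl | rfl
  · obtain ⟨e⟩ := hr
    rw [H251.Der.card_aut_congr e]
    exact aut_a5
  · obtain ⟨F, _, _, hF, ⟨e⟩⟩ := hr
    obtain ⟨f⟩ := Cfsg.Agent.S0252.result (F := F) hF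
    rw [H251.Der.card_aut_congr (e.trans f)]
    exact aut_a5
  · obtain ⟨F, _, _, hF, ⟨e⟩⟩ := hr
    obtain ⟨f⟩ := Cfsg.Agent.S0253.result (F := F) hF
    rw [H251.Der.card_aut_congr (e.trans f)]
    exact aut_a5

theorem aut_25 (OT : OrderTable.{0}) (hS : Kn) {S : Type} [Group S] [Finite S] [IsSimpleGroup S]
    (hna : ¬ ∀ x y : S, x * y = y * x) (hd : Nat.card S ∣ 11664000) : ¬ 25 ∣ Nat.card (MulAut S) := by
  rcases card_cases OT hS hna hd with h | h | h
  · exact aut_60 OT hS hna h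
  · rw [H251.Der.aut_360 OT hS hna h]; norm_num
  · rw [H251.Der.aut_25920 OT hS hna h]; norm_num

/-- a simple group and a commuting element of order 5 -/
theorem no_simple (OT : OrderTable.{0}) (hS : Kn)
    (h5 : ∀ y : X, orderOf y = 5 → Nat.card (centralizer ({y} : Set X)) = 25 ∨ Nat.card (centralizer ({y} : Set X)) = 750)
    {T : Subgroup X} (hT : Nat.card T ∣ 11664000) {S : Subgroup T} (hs : IsSimpleGroup S)
    (hna : ¬ ∀ a b : S, a * b = b * a) {y : T} (hy : orderOf y = 5) (hc : ∀ s ∈ S, s * y = y * s) : False := by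
  have hd : Nat.card S ∣ 11664000 := (Subgroup.card_subgroup_dvd_card S).trans hT
  have h1 : 4 ∣ Nat.card S := by
    rcases card_cases OT hS hna hd with h | h | h <;> rw [h] <;> norm_num
  have h2 : Nat.card S ∣ Nat.card (centralizer ({(y : X)} : Set X)) := by
    rw [Nat.card_congr (S.equivMapOfInjective T.subtype T.subtype_injective).toEquiv]
    apply Subgroup.card_dvd_of_le
    rintro _ ⟨s, hsS, rfl⟩
    rw [mem_centralizer_singleton_iff]
    exact congrArg Subtype.val (hc s hsS)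
  have h3 := h1.trans h2
  rcases h5 y (by rw [Subgroup.orderOf_coe, hy]) with h | h <;> rw [h] at h3 <;> norm_num at h3

open Cfsg.Agent.Lib.MinNormal Cfsg.Agent.Lib.MinNormalNonabelian in
theorem no_nonab (OT : OrderTable.{0}) (hS : Kn)
    (h5 : ∀ y : X, orderOf y = 5 → Nat.card (centralizer ({y} : Set X)) = 25 ∨ Nat.card (centralizer ({y} : Set X)) = 750)
    {T : Subgroup X} (hT : Nat.card T ∣ 11664000) (h25 : 25 ∣ Nat.card T) (M : Subgroup T) [M.Normal]
    (hmin : ∀ K : Subgroup T, K.Normal → K ≤ M → K = ⊥ ∨ K = M) (hna : ¬ ∀ x ∈ M, ∀ y ∈ M, Commute x y) : False := by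
  have : Fact (Nat.Prime 5) := ⟨Nat.prime_five⟩
  obtain ⟨⟨S, hSm⟩, hind, hsup, hsimple, hcent, -⟩ := nonabelian_structure M hmin hna
  have hnorm : ∀ S ∈ minSet M, M ≤ normalizer (S : Set T) := fun S hS => hS.2.2.1
  have hle : ∀ S ∈ minSet M, S ≤ M := fun S hS => hS.1
  have hnaS : ∀ S ∈ minSet M, ¬ ∀ a b : S, a * b = b * a := by
    intro S hSm hab
    apply hSm.2.1
    rw [eq_bot_iff]
    intro s hs
    rw [mem_bot]
    exact hcent S hSm s hs fun t ht => congrArg Subtype.val (hab ⟨s, hs⟩ ⟨t, ht⟩)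
  have hcard5 : ∀ S ∈ minSet M, 5 ∣ Nat.card S := by
    intro S hSm
    have := hsimple S hSm
    rcases card_cases OT hS (hnaS S hSm) ((Subgroup.card_subgroup_dvd_card S).trans hT) with h | h | h <;> rw [h] <;>
      norm_num
  have hS1 := hsimple S hSm
  by_cases huniq : ∀ S' ∈ minSet M, S' = S
  · have hMS : M = S := by
      rw [← hsup]
      apply le_antisymm
      · exact sSup_le fun S' hS' => (huniq S' hS').le
      · exact le_sSup hSm
    subst hMS
    have hM1 : IsSimpleGroup M := hS1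
    have hd : Nat.card M ∣ 11664000 := (Subgroup.card_subgroup_dvd_card M).trans hT
    let φ : T →* MulAut M := MulAut.conjNormal
    have h1 : Nat.card T = Nat.card φ.ker * Nat.card φ.range := by
      rw [← Subgroup.index_ker]
      exact (Subgroup.card_mul_index _).symm
    have h2 : Nat.card φ.range ∣ Nat.card (MulAut M) := Subgroup.card_subgroup_dvd_card _
    have h3 : 5 ∣ Nat.card φ.ker := by
      by_contra hcon
      apply aut_25 OT hS (hnaS M hSm) hd
      refine dvd_trans ?_ h2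
      have h4 : Nat.Coprime 25 (Nat.card φ.ker) := by
        have : Nat.Coprime (5 ^ 2) (Nat.card φ.ker) :=
          Nat.Coprime.pow_left 2 ((Nat.Prime.coprime_iff_not_dvd Nat.prime_five).2 hcon)
        simpa only [_root_.MonoidHom.mem_ker, _root_.Nat.reducePow] using this
      rw [h1] at h25
      exact h4.dvd_of_dvd_mul_left h25
    obtain ⟨y, hy⟩ := exists_prime_orderOf_dvd_card' 5 h3
    refine no_simple OT hS h5 hT hM1 (hnaS M hSm) (y := (y : T)) (by rw [Subgroup.orderOf_coe, hy]) fun s hs => ?_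
    have h4 : φ (y : T) = 1 := MonoidHom.mem_ker.1 y.2
    have h5 := congrArg (fun e : MulAut M => ((e ⟨s, hs⟩ : M) : T)) h4
    simp only [φ, MulAut.conjNormal_apply, MulAut.one_apply] at h5
    exact (mul_inv_eq_iff_eq_mul.1 h5).symm
  · push Not at huniq
    obtain ⟨S', hS'm, hne⟩ := huniq
    obtain ⟨y, hy⟩ := exists_prime_orderOf_dvd_card' 5 (hcard5 S' hS'm)
    exact no_simple OT hS h5 hT hS1 (hnaS S hSm) (y := (y : T)) (by rw [Subgroup.orderOf_coe, hy]) fun s hs =>
      commute_of_mem hind hnorm hle hSm hS'm hne.symm hs y.2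

open Cfsg.Agent.Lib.MinNormal Cfsg.Agent.Lib.MinNormalNonabelian in
/-- **the `{2,3,5}`-subgroups of order divisible by 25** -/
theorem card_le_of_25 (OT : OrderTable.{0}) (hS : Kn) (hX : Nat.card X ∣ 2 ^ 7 * 3 ^ 6 * 5 ^ 3 * 7 * 11)
    (h5 : ∀ y : X, orderOf y = 5 → Nat.card (centralizer ({y} : Set X)) = 25 ∨ Nat.card (centralizer ({y} : Set X)) = 750)
    {z : X} (hz : orderOf z = 5) (hc : Nat.card (centralizer ({z} : Set X)) = 25)
    {T : Subgroup X} (hzT : z ∈ T) (hT : Nat.card T ∣ 11664000) (h25 : 25 ∣ Nat.card T) : Nat.card T ≤ 93000 := by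
  have : Fact (Nat.Prime 5) := ⟨Nat.prime_five⟩
  -- the centralizer of `z`
  have hCT : centralizer ({z} : Set X) ≤ T := by
    have h1 : 5 ^ 2 ∣ Nat.card (centralizer ({(⟨z, hzT⟩ : T)} : Set T)) :=
      Cfsg.Agent.CpAutCo3.MTw.sq_dvd (by norm_num only []; exact h25)
        (IsPGroup.of_card (n := 1) (by rw [Nat.card_zpowers, Subgroup.orderOf_mk, hz, pow_one]))
    have h2 : (centralizer ({(⟨z, hzT⟩ : T)} : Set T)).map T.subtype ≤ centralizer ({z} : Set X) := by
      rintro _ ⟨y, hy, rfl⟩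
      rw [mem_centralizer_singleton_iff]
      exact congrArg Subtype.val (mem_centralizer_singleton_iff.1 hy)
    have h3 : (centralizer ({(⟨z, hzT⟩ : T)} : Set T)).map T.subtype = centralizer ({z} : Set X) := by
      apply Subgroup.eq_of_le_of_card_ge h2
      rw [hc, Subgroup.card_map_of_injective T.subtype_injective]
      exact Nat.le_of_dvd Nat.card_pos (by norm_num only [] at h1; exact h1)
    rw [← h3]
    rintro _ ⟨y, -, rfl⟩
    exact y.2
  have hnt : Nontrivial T := by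
    rw [← Finite.one_lt_card_iff_nontrivial]
    exact lt_of_lt_of_le (by norm_num) (Nat.le_of_dvd Nat.card_pos h25)
  obtain ⟨M, hMn, hM, hmin⟩ := Cfsg.Agent.Lib.SubnormalJoin.exists_minimal_normal T
  by_cases hab : ∀ x ∈ M, ∀ y ∈ M, Commute x y
  swap
  · exact (no_nonab OT hS h5 hT h25 M hmin hab).elim
  obtain ⟨p, hp, hpM, hexp⟩ := abelian_structure M hM hmin hab
  have := Fact.mk hp
  set M' : Subgroup X := M.map T.subtype with hM'
  have hM1 : M' ≠ ⊥ := fun h => hM ((Subgroup.map_eq_bot_iff_of_injective M T.subtype_injective).1 h)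
  have hTN : T ≤ normalizer (M' : Set X) := by
    intro t ht
    rw [mem_normalizer_iff]
    have key : ∀ t : T, ∀ m ∈ M', (t : X) * m * (t : X)⁻¹ ∈ M' := by
      rintro t _ ⟨m, hm, rfl⟩
      exact ⟨t * m * t⁻¹, hMn.conj_mem m hm t, rfl⟩
    intro m
    constructor
    · exact key ⟨t, ht⟩ m
    · intro hm
      have := key (⟨t, ht⟩ : T)⁻¹ _ hm
      have e : (((⟨t, ht⟩ : T)⁻¹ : T) : X) * (t * m * t⁻¹) * ((((⟨t, ht⟩ : T)⁻¹ : T) : X))⁻¹ = m := by
        rw [coe_inv]
        group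
      rwa [e] at this
  have hpM' : IsPGroup p M' := hpM.map _
  have hcM : Nat.card M' = Nat.card M := Subgroup.card_map_of_injective T.subtype_injective
  have hpd : p ∣ 11664000 := by
    have h1 : p ∣ Nat.card M := by
      obtain ⟨k, hk⟩ := hpM.exists_card_eq
      rw [hk]
      refine dvd_pow_self p fun h0 => ?_
      rw [h0, pow_zero] at hk
      exact hM (Subgroup.card_eq_one.1 hk)
    exact h1.trans ((Subgroup.card_subgroup_dvd_card M).trans hT)
  have hp5 : p = 2 ∨ p = 3 ∨ p = 5 := by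
    rw [show 11664000 = 2 ^ 7 * 3 ^ 6 * 5 ^ 3 by norm_num] at hpd
    rcases (Nat.Prime.dvd_mul hp).1 hpd with h | h
    · rcases (Nat.Prime.dvd_mul hp).1 h with h | h
      · exact Or.inl ((Nat.prime_dvd_prime_iff_eq hp Nat.prime_two).1 (hp.dvd_of_dvd_pow h))
      · exact Or.inr (Or.inl ((Nat.prime_dvd_prime_iff_eq hp Nat.prime_three).1 (hp.dvd_of_dvd_pow h)))
    · exact Or.inr (Or.inr ((Nat.prime_dvd_prime_iff_eq hp Nat.prime_five).1 (hp.dvd_of_dvd_pow h)))
  have hno : ∀ r : ℕ, r = 2 ∨ r = 3 → IsPGroup r M' → False := fun r hr hpr =>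
    no_rgroup hX h5 hz hc hM1 (hCT.trans hTN) hr hpr
  rcases hp5 with rfl | rfl | rfl
  · exact (hno 2 (Or.inl rfl) hpM').elim
  · exact (hno 3 (Or.inr rfl) hpM').elim
  · obtain ⟨k, hk⟩ := hpM'.exists_card_eq
    have hk3 : k ≤ 3 := by
      by_contra hcon
      have h1 := (pow_dvd_pow 5 (show 4 ≤ k by omega)).trans (hk ▸ hcM ▸ (Subgroup.card_subgroup_dvd_card M).trans hT)
      norm_num at h1
    have hk125 : Nat.card M' ≤ 125 := by
      rw [hk]
      exact (Nat.pow_le_pow_right (by norm_num) hk3).trans (by norm_num)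
    have h5M : 5 ∣ Nat.card M' := by
      rw [hk]
      refine dvd_pow_self 5 fun h0 => ?_
      rw [h0, pow_zero] at hk
      exact hM1 (Subgroup.card_eq_one.1 hk)
    obtain ⟨y, hy⟩ := exists_prime_orderOf_dvd_card' 5 h5M
    have hy' : orderOf (y : X) = 5 := by rw [Subgroup.orderOf_coe, hy]
    have hy1 : (y : X) ≠ 1 := by
      intro h
      rw [h, orderOf_one] at hy'
      norm_num at hy'
    have h6 := card_le_cent T M' hTN y.2 hy1
    have h7 : Nat.card (centralizer ({(y : X)} : Set X)) ≤ 750 := by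
      rcases h5 y hy' with h | h <;> rw [h]; norm_num
    calc Nat.card T ≤ _ := h6
      _ ≤ 124 * 750 := Nat.mul_le_mul (by omega) h7
      _ = 93000 := by norm_num

end Str

end Cfsg.Agent.H757.S8
end

-- part: H757/S8/McL
section
/-!
# S4908: FROB for `McL` (helper757)

The Frobenius group `11:5`. Subgroups of order divisible by 11: the order engine; the elements of order 5 have
centralizers of order 25: subgroups of order divisible by 35: the order engine; the `{2,3,5}`-subgroups: `McLStr`; the class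
numbers: `KLe` with elements of order 8, 9, 5, 7, 11.
-/

set_option autoImplicit false
set_option maxRecDepth 100000

namespace Cfsg.Agent.H757.S8.McL

open Subgroup Cfsg Cfsg.Agent.H904.McLCent Cfsg.Agent.McLType.X275 Cfsg.Agent.H704.S8 Cfsg.Agent.H940.Eng
open Cfsg.Agent.H966.Gen.McL (os11 os35 ho11 ho35)

universe v

theorem hp2 {T : Subgroup G1} (hT : 2 ^ 7 ∣ Nat.card T) : HP T 2 8 := by
  obtain ⟨x, hx, hc⟩ := eight
  exact HP.of_full Nat.prime_two hT (by rw [card_G1]; norm_num) hx hc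

theorem hp3 {T : Subgroup G1} (hT : 3 ^ 6 ∣ Nat.card T) : HP T 3 27 := by
  obtain ⟨x, hx, hc⟩ := nine
  exact HP.of_full Nat.prime_three hT (by rw [card_G1]; norm_num) hx hc

theorem hp7 {T : Subgroup G1} (hT : 7 ∣ Nat.card T) : HP T 7 14 :=
  HP.of_order (by norm_num) hT fun _ hy => (card_cent_seven hy).le

theorem hp11 {T : Subgroup G1} (hT : 11 ∣ Nat.card T) : HP T 11 11 :=
  HP.of_order (by norm_num) hT fun _ hy => (Cfsg.Agent.H686.Odd.McL.eleven_card hy).le

theorem hp5 {T : Subgroup G1} {z : G1} (hz : orderOf z = 5) (hc : Nat.card (centralizer ({z} : Set G1)) = 25)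
    (hzT : z ∈ T) : HP T 5 25 :=
  ⟨Nat.prime_five, z, hzT, ⟨1, by rw [hz, pow_one]⟩, by
    rw [hc]; exact Nat.le_of_dvd (by norm_num) (Nat.gcd_dvd_left _ _)⟩

theorem hp5' {T : Subgroup G1} {z : G1} (hz : orderOf z = 5) (hc : Nat.card (centralizer ({z} : Set G1)) = 25)
    (hzT : z ∈ T) (h25 : ¬ 25 ∣ Nat.card T) : HP T 5 5 :=
  ⟨Nat.prime_five, z, hzT, ⟨1, by rw [hz, pow_one]⟩, by
    rw [hc]
    have h1 : Nat.gcd 25 (Nat.card T) ∣ 5 ^ 2 := Nat.gcd_dvd_left _ _
    obtain ⟨k, hk2, hk⟩ := (Nat.dvd_prime_pow Nat.prime_five).1 h1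
    rw [hk]
    have h2 : Nat.gcd 25 (Nat.card T) ∣ Nat.card T := Nat.gcd_dvd_right _ _
    rw [hk] at h2
    interval_cases k
    · norm_num
    · norm_num
    · exact absurd h2 h25⟩

/-- the bounds -/
def cf (c5 p : ℕ) : ℕ := if p = 2 then 8 else if p = 3 then 27 else if p = 5 then c5 else if p = 7 then 14 else 11

/-- subgroups of order divisible by 11 -/
theorem row11 (B : Base) {T : Subgroup G1} (hT : T ≠ ⊤) (h11 : 11 ∣ Nat.card T) :
    2 * (Nat.card T * Nat.card (ConjClasses T)) ≤ 898128000 := by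
  have h := Cfsg.Agent.H147.Gen.orders2 (Cfsg.Agent.H715.Fpr.McL.ctx B isoMcL_G1) ⟨11, 11, [(5, 1), (11, 1)]⟩
    (by simp [Cfsg.Agent.H715.Fpr.McL.loc]) os11 20 ho11 T h11 hT
  have h45 := no45 T
  simp only [os11, List.mem_cons, List.not_mem_nil, or_false] at h
  have b11 : ∀ p ∈ ({11} : Finset ℕ), HP T p (cf 25 p) := by
    intro p hp
    rw [Finset.mem_singleton] at hp
    subst hp
    exact hp11 h11
  rcases h with h | h | h | h | h | h | h | h | h | h
  all_goals first | exact absurd h h45 | skip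
  all_goals try exact bound {11} (cf 25) _ b11 (by rw [h]; decide)
  refine bound {7, 11} (cf 25) _ ?_ (by rw [h]; decide)
  intro p hp
  simp only [Finset.mem_insert, Finset.mem_singleton] at hp
  rcases hp with rfl | rfl
  · exact hp7 (by rw [h]; norm_num)
  · exact hp11 h11

section Five

variable {T : Subgroup G1} {z : G1} (hz : orderOf z = 5) (hc : Nat.card (centralizer ({z} : Set G1)) = 25)
    (hzT : z ∈ T)

include hz hc hzT

theorem row35 (B : Base) (hT : T ≠ ⊤) (h7 : 7 ∣ Nat.card T) :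
    2 * (Nat.card T * Nat.card (ConjClasses T)) ≤ 898128000 := by
  have h5 : 5 ∣ Nat.card T := by
    have := _root_.orderOf_dvd_natCard (⟨z, hzT⟩ : T)
    rwa [Subgroup.orderOf_mk, hz] at this
  have h35 : 35 ∣ Nat.card T := (by norm_num : Nat.Coprime 5 7).mul_dvd_of_dvd_of_dvd h5 h7
  have h := Cfsg.Agent.H147.Gen.orders2 (Cfsg.Agent.H715.Fpr.McL.ctx B isoMcL_G1) ⟨7, 14, [(2, 1), (3, 1), (7, 1)]⟩
    (by simp [Cfsg.Agent.H715.Fpr.McL.loc]) os35 20 ho35 T h35 hT
  have h45 := no45 T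
  simp only [os35, List.mem_cons, List.not_mem_nil, or_false] at h
  have b57 : ∀ p ∈ ({5, 7} : Finset ℕ), HP T p (cf 25 p) := by
    intro p hp
    simp only [Finset.mem_insert, Finset.mem_singleton] at hp
    rcases hp with rfl | rfl
    · exact hp5 hz hc hzT
    · exact hp7 h7
  rcases h with h | h | h | h | h | h | h | h | h | h | h | h
  all_goals first | exact absurd h h45 | skip
  all_goals try exact bound {5, 7} (cf 25) _ b57 (by rw [h]; decide)
  · refine bound {2, 5, 7} (cf 25) _ ?_ (by rw [h]; decide)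
    intro p hp
    simp only [Finset.mem_insert, Finset.mem_singleton] at hp
    rcases hp with rfl | rfl | rfl
    · exact hp2 (by rw [h]; norm_num)
    · exact hp5 hz hc hzT
    · exact hp7 h7
  · refine bound {2, 3, 5, 7} (cf 5) _ ?_ (by rw [h]; decide)
    intro p hp
    simp only [Finset.mem_insert, Finset.mem_singleton] at hp
    rcases hp with rfl | rfl | rfl | rfl
    · exact hp2 (by rw [h]; norm_num)
    · exact hp3 (by rw [h]; norm_num)
    · exact hp5' hz hc hzT (by rw [h]; norm_num)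
    · exact hp7 h7

theorem rowT (B : Base) (h7 : ¬ 7 ∣ Nat.card T) (h11 : ¬ 11 ∣ Nat.card T) :
    2 * (Nat.card T * Nat.card (ConjClasses T)) ≤ 898128000 := by
  have hd : Nat.card T ∣ 11664000 := by
    have h1 : Nat.card T ∣ 11 * (7 * 11664000) := by
      have := Subgroup.card_subgroup_dvd_card T
      rwa [card_G1] at this
    have c11 : Nat.Coprime (Nat.card T) 11 := ((Nat.Prime.coprime_iff_not_dvd (by norm_num)).2 h11).symm
    have c7 : Nat.Coprime (Nat.card T) 7 := ((Nat.Prime.coprime_iff_not_dvd (by norm_num)).2 h7).symm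
    exact c7.dvd_of_dvd_mul_left (c11.dvd_of_dvd_mul_left h1)
  have hpos : 0 < Nat.card T := Nat.card_pos
  by_cases h25 : 25 ∣ Nat.card T
  · have hle := card_le_of_25 B.table (fun S => B.known S inferInstance) (by rw [card_G1]; norm_num) (fun y hy => five hy) hz hc hzT hd h25
    refine bound {5} (cf 25) _ (fun p hp => ?_) ?_
    · rw [Finset.mem_singleton] at hp
      subst hp
      exact hp5 hz hc hzT
    · rw [Finset.sum_singleton, Finset.prod_singleton]
      have h1 : Nat.card T / 5 ^ 2 ≤ 93000 / 5 ^ 2 := Nat.div_le_div_right hle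
      calc 2 * (Nat.card T * (cf 25 5 + Nat.card T / 5 ^ 2)) ≤ 2 * (93000 * (25 + 93000 / 5 ^ 2)) :=
            Nat.mul_le_mul_left 2 (Nat.mul_le_mul hle (Nat.add_le_add_left h1 25))
        _ ≤ 898128000 := by norm_num
  · have hd2 : Nat.card T ∣ 466560 := by
      obtain ⟨k, hk⟩ : 5 ∣ Nat.card T := by
        have := _root_.orderOf_dvd_natCard (⟨z, hzT⟩ : T)
        rwa [Subgroup.orderOf_mk, hz] at this
      have h5k : ¬ 5 ∣ k := fun ⟨l, hl⟩ => h25 ⟨l, by rw [hk, hl]; ring⟩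
      have h1 : k ∣ 5 ^ 2 * 93312 := by
        rw [hk] at hd
        exact Nat.dvd_of_mul_dvd_mul_left (by norm_num : 0 < 5) (by simpa only [_root_.Nat.reducePow, _root_.Nat.reduceMul] using hd)
      have h2 : k ∣ 93312 :=
        (Nat.Coprime.pow_right 2 ((Nat.Prime.coprime_iff_not_dvd Nat.prime_five).2 h5k).symm).dvd_of_dvd_mul_left h1
      rw [hk]
      exact (Nat.mul_dvd_mul_left 5 h2)
    have e5 := hp5' hz hc hzT h25
    by_cases hle : Nat.card T ≤ 105000
    · refine bound {5} (cf 5) _ (fun p hp => ?_) ?_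
      · rw [Finset.mem_singleton] at hp
        subst hp
        exact e5
      · rw [Finset.sum_singleton, Finset.prod_singleton]
        have h1 : Nat.card T / 5 ^ 2 ≤ 105000 / 5 ^ 2 := Nat.div_le_div_right hle
        calc 2 * (Nat.card T * (cf 5 5 + Nat.card T / 5 ^ 2)) ≤ 2 * (105000 * (5 + 105000 / 5 ^ 2)) :=
              Nat.mul_le_mul_left 2 (Nat.mul_le_mul hle (Nat.add_le_add_left h1 5))
          _ ≤ 898128000 := by norm_num
    · push Not at hle
      obtain ⟨q, hq⟩ := hd2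
      have hq4 : q ≤ 4 := by
        by_contra hcon
        push Not at hcon
        have : Nat.card T * 5 ≤ Nat.card T * q := Nat.mul_le_mul_left _ hcon
        omega
      have h : Nat.card T = 466560 ∨ Nat.card T = 233280 ∨ Nat.card T = 155520 ∨ Nat.card T = 116640 := by
        interval_cases q <;> (clear * - hq; omega)
      rcases h with h | h | h | h
      · refine bound {2, 3, 5} (cf 5) _ ?_ (by rw [h]; decide)
        intro p hp
        simp only [Finset.mem_insert, Finset.mem_singleton] at hp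
        rcases hp with rfl | rfl | rfl
        · exact hp2 (by rw [h]; norm_num)
        · exact hp3 (by rw [h]; norm_num)
        · exact e5
      · refine bound {3, 5} (cf 5) _ ?_ (by rw [h]; decide)
        intro p hp
        simp only [Finset.mem_insert, Finset.mem_singleton] at hp
        rcases hp with rfl | rfl
        · exact hp3 (by rw [h]; norm_num)
        · exact e5
      · refine bound {2, 5} (cf 5) _ ?_ (by rw [h]; decide)
        intro p hp
        simp only [Finset.mem_insert, Finset.mem_singleton] at hp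
        rcases hp with rfl | rfl
        · exact hp2 (by rw [h]; norm_num)
        · exact e5
      · refine bound {3, 5} (cf 5) _ ?_ (by rw [h]; decide)
        intro p hp
        simp only [Finset.mem_insert, Finset.mem_singleton] at hp
        rcases hp with rfl | rfl
        · exact hp3 (by rw [h]; norm_num)
        · exact e5

end Five

/-- the row of the model -/
theorem row_G1 (B : Base) (D : Set ℕ) : FrobRow 2 D G1 := by
  obtain ⟨u, z, hu, hz, hrel, hc⟩ := frob
  have hrel' : z * u * z⁻¹ = u ^ 4 := by rw [hrel]; group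
  refine ⟨zpowers u, zpowers z, by rw [Nat.card_zpowers, hu]; norm_num, ?_, ?_, ?_, ?_⟩
  · rw [zpowers_le]
    have h1 : (zpowers u).map (MulAut.conj z).toMonoidHom ≤ zpowers u := by
      rintro _ ⟨x, hx, rfl⟩
      obtain ⟨k, rfl⟩ := hx
      have : (MulAut.conj z).toMonoidHom (u ^ k) = (u ^ 4) ^ k := by
        rw [map_zpow]
        congr 1
      change (MulAut.conj z).toMonoidHom (u ^ k) ∈ zpowers u
      rw [this]
      exact zpow_mem (pow_mem (mem_zpowers u) 4) k
    have h2 : (zpowers u).map (MulAut.conj z).toMonoidHom = zpowers u := by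
      apply Subgroup.eq_of_le_of_card_ge h1
      rw [Subgroup.card_map_of_injective (MulAut.conj z).injective]
    rw [mem_normalizer_iff]
    intro g
    constructor
    · intro hg
      exact h1 ⟨g, hg, rfl⟩
    · intro hg
      have h3 : z * g * z⁻¹ ∈ (zpowers u).map (MulAut.conj z).toMonoidHom := by rw [h2]; exact hg
      obtain ⟨g', hg', h4⟩ := h3
      have h5 : g' = g := (MulAut.conj z).injective h4
      rwa [← h5]
  · intro x hx g hg hgx
    by_cases hx1 : x = 1
    · exact Or.inl hx1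
    · right
      have hxo : orderOf x = 11 := by
        have h1 : orderOf x ∣ 11 := by rw [← hu]; exact orderOf_dvd_of_mem_zpowers hx
        rcases (Nat.dvd_prime (by norm_num)).1 h1 with h | h
        · exact absurd (orderOf_eq_one_iff.1 h) hx1
        · exact h
      have h2 : orderOf g ∣ 11 := by
        have h3 : g ∈ centralizer ({x} : Set G1) := mem_centralizer_singleton_iff.2 hgx
        have := _root_.orderOf_dvd_natCard (⟨g, h3⟩ : centralizer ({x} : Set G1))
        rwa [Subgroup.orderOf_mk, Cfsg.Agent.H686.Odd.McL.eleven_card hxo] at this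
      have h4 : orderOf g ∣ 5 := by rw [← hz]; exact orderOf_dvd_of_mem_zpowers hg
      exact orderOf_eq_one_iff.1 (Nat.eq_one_of_dvd_coprimes (by norm_num : Nat.Coprime 11 5) h2 h4)
  · intro h
    rw [zpowers_eq_bot] at h
    rw [h, orderOf_one] at hz
    norm_num at hz
  · intro T hT hPQ _
    rw [card_G1]
    rcases hPQ with h | h
    · refine row11 B hT ?_
      rw [← hu, ← Nat.card_zpowers]
      exact Subgroup.card_dvd_of_le h
    · have hzT : z ∈ T := h (mem_zpowers z)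
      by_cases h11 : 11 ∣ Nat.card T
      · exact row11 B hT h11
      by_cases h7 : 7 ∣ Nat.card T
      · exact row35 hz hc hzT B hT h7
      · exact rowT hz hc hzT B h7 h11

/-- **FROB for `McL`** -/
theorem row (B : Base) {X : Type v} [Group X] (hX : Spor.IsoMcL X) (D : Set ℕ) : FrobRow 2 D X := by
  obtain ⟨e⟩ := hX
  obtain ⟨f⟩ := isoMcL_G1
  exact frobRow_congr (e.trans f.symm) (row_G1 B D)

end Cfsg.Agent.H757.S8.McL
end

private theorem dce_bb94991fddcf : _root_.True := by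
  try have : _root_.True := by simp only [_root_.Cfsg.Agent.H517.S8.McLDeg.degs.eq_1]
  try have : _root_.True := by simp only [_root_.Cfsg.Agent.H966.Gen.McL.os11.eq_1]
  try have : _root_.True := by simp only [_root_.Cfsg.Agent.H966.Gen.McL.os35.eq_1]
  exact _root_.True.intro
end

-- part: H795/S8/SuzChief
section
prune_inst 0x301045013000000000040000200000a10000000000400000000000000801040000008000020001000000088000000000001800000000000000000000000500000000000000000000000000000000000000000000000000000000000000000000000000000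
set_option linter.all false
open scoped Cfsg.Agent.FastGrp

-- part: H795/S8/SuzW
section
/-!
# Words in the presented Suzuki group and kernel checks of relations (helper795)

* `W l` : the element of a word in the seven generators;
* `W_eq` : equality of words, checked at the five base points;
* `wd_eq` : a product of conjugates of a class representative (given by its table) is a word.
-/

set_option autoImplicit false
set_option maxRecDepth 1000000
set_option exponentiation.threshold 5000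

namespace Cfsg.Agent.H795.S8.SuzW

open Subgroup MulAction Cfsg.Agent.H257.RG Cfsg.Agent.H257.RG.SuzF
open Cfsg Cfsg.Spor Cfsg.Agent.H123.Cls Cfsg.Agent.H123.Cls.SuzDat Cfsg.Agent.Lib.BitNet
open Cfsg.Agent.OddHalf.Table.SuzRep (ψ ψ_val ψ_injective)
open Cfsg.Agent.SporadicRecognition.SuzOrder (el)
open Cfsg.Agent.SporRec.SuzCl (eq_of_base)

/-- the element of a word -/
noncomputable def wv' (l : List ℕ) : Suz := el (l.map gn)

theorem w_app (a b : List ℕ) : wv' (a ++ b) = wv' a * wv' b := by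
  unfold wv'
  simp only [el, List.map_append, List.prod_append]

theorem w_rev (a : List ℕ) : wv' a.reverse = (wv' a)⁻¹ := el_rev a

theorem w_nil : wv' [] = 1 := by
  unfold wv'
  simp [el]

/-- all letters are generators -/
def okL (a : List ℕ) : Bool := a.all fun k => Nat.blt k 7

theorem okL_spec {a : List ℕ} (h : okL a = true) : ∀ k ∈ a, k < 7 := by
  intro k hk
  have := List.all_eq_true.1 h k hk
  simpa [Nat.blt_eq] using this

/-- equality at the base points -/
noncomputable def chkE (a b : List ℕ) : Bool :=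
  okL a && (okL b && [14, 98, 1, 1575, 0].all fun q => Nat.beq (evw 11 gens a q) (evw 11 gens b q))

theorem ext_base {x y : Suz} (h : ∀ q : Fin 1782, (q : ℕ) ∈ [14, 98, 1, 1575, 0] → (ψ x q : ℕ) = ψ y q) : x = y := by
  apply eq_of_base
  intro q hq
  have hq' : q < 1782 := by
    simp only [List.mem_cons, List.not_mem_nil, or_false] at hq
    rcases hq with rfl | rfl | rfl | rfl | rfl <;> norm_num
  have h1 := h ⟨q, hq'⟩ hq
  rw [ψ_val, ψ_val] at h1
  exact h1

theorem w_eq {a b : List ℕ} (h : chkE a b = true) : wv' a = wv' b := by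
  unfold chkE at h
  rw [Bool.and_eq_true, Bool.and_eq_true] at h
  obtain ⟨h1, h2, h3⟩ := h
  apply ext_base
  intro q hq
  have h4 := List.all_eq_true.1 h3 q hq
  unfold wv'
  rw [ev_tab a (okL_spec h1), ev_tab b (okL_spec h2)]
  exact Nat.eq_of_beq_eq_true h4

/-- a product of conjugates is a word -/
noncomputable def chkG (P : ℕ) (u v : List ℕ) (L : List ℕ) (b : List ℕ) : Bool :=
  okL b && [14, 98, 1, 1575, 0].all fun q => Nat.beq (wv P u v L q) (evw 11 gens b q)

theorem wd_eq {x : Suz} {P : ℕ} {u v : List ℕ} (hx : ∀ p : Fin 1782, (ψ x p : ℕ) = lk 11 P p) (hu : okL u = true)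
    (hv : v = u.reverse) {L b : List ℕ} (h : chkG P u v L b = true) : wd x (wv' u) L = wv' b := by
  unfold chkG at h
  rw [Bool.and_eq_true] at h
  obtain ⟨h1, h3⟩ := h
  apply ext_base
  intro q hq
  have h4 := List.all_eq_true.1 h3 q hq
  unfold wv'
  rw [wv_eq hx (okL_spec hu) hv, ev_tab b (okL_spec h1)]
  exact Nat.eq_of_beq_eq_true h4

end Cfsg.Agent.H795.S8.SuzW
end

-- part: H795/S8/SuzQ
section
/-!
# Two commuting extraspecial groups modulo a subgroup of order three in a Sylow 3-subgroup of `Suz` (helper795)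

`Z` is an element of order 3 of class 3B, `Y` another one of the centre of a Sylow 3-subgroup.
-/

set_option autoImplicit false
set_option maxRecDepth 1000000
set_option exponentiation.threshold 5000

namespace Cfsg.Agent.H795.S8.SuzW

open Cfsg Cfsg.Spor

def Z : List ℕ := [6, 5, 3, 1, 2, 3, 4, 2, 3, 2, 1, 6, 5, 1, 2, 3, 4, 2, 3, 2, 1, 0, 4]

def Y : List ℕ := [0, 1, 2, 3, 4, 2, 3, 2, 0, 1, 5, 6, 1, 2, 3, 4, 2, 0, 3, 2, 1, 5, 6]

def S1 : List ℕ := [5, 6, 2, 1, 5, 6, 1, 2, 0, 1, 5, 3, 4, 3, 2, 3, 1, 0, 2, 3, 4, 6, 1, 0, 1, 2, 3, 2, 5, 6, 1, 5, 6, 1, 0, 2]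

def S28 : List ℕ := [6, 1, 0, 1, 6, 5, 1, 2, 3, 4, 2, 3, 2, 1, 5, 2, 3, 2, 1, 3, 4, 3, 2, 1, 3, 2, 4, 3, 2, 6, 5, 1, 6, 5]

def S41 : List ℕ := [1, 5, 2, 1, 6, 3, 2, 1, 5, 6, 1, 2, 3, 2, 1, 5, 4, 1, 2, 3, 2, 1, 0, 3, 4, 6, 1, 0, 2, 3, 2, 1, 5, 1, 6]

def S260 : List ℕ := [5, 2, 3, 4, 3, 2, 3, 1, 2, 3, 4, 1, 2, 3, 2, 0, 1, 0, 1, 2, 3, 2, 4, 3, 2, 1, 0, 1, 0, 5]

def S36 : List ℕ := [0, 1, 6, 0, 1, 5, 2, 3, 4, 2, 3, 2, 1, 6, 5, 2, 3, 2, 1, 4, 3, 2, 1, 3, 2, 3, 4, 3, 2, 1, 6, 1, 5, 1]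

def S191 : List ℕ := [1, 6, 5, 1, 2, 3, 4, 3, 2, 3, 1, 2, 3, 4, 1, 2, 3, 0, 2, 5, 1, 0, 6, 1, 2, 3, 2, 4, 3, 2, 1, 0, 5, 1, 6, 0]

def S165 : List ℕ := [6, 1, 2, 3, 4, 2, 3, 2, 1, 6, 0, 1, 2, 3, 4, 2, 3, 0, 2, 1, 0, 3, 4, 5, 1, 0, 1, 6]

def S167 : List ℕ := [2, 1, 5, 1, 6, 3, 2, 1, 5, 6, 1, 2, 3, 4, 1, 2, 0, 1, 0, 3, 2, 1, 0, 3, 2, 4, 3, 2, 5, 1, 2, 6, 1, 5, 1, 6, 2]

/-- repetition of a word -/
def rp (a : List ℕ) : ℕ → List ℕ
  | 0 => []
  | n + 1 => a ++ rp a n

theorem w_rp (a : List ℕ) (n : ℕ) : wv' (rp a n) = wv' a ^ n := by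
  induction n with
  | zero => rw [rp, w_nil, pow_zero]
  | succ n ih => rw [rp, w_app, ih, pow_succ']

/-- all relations -/
noncomputable def chkQ (K U V A B : List ℕ) (c1 c2 r1 r2 r3 r4 : ℕ) : Bool :=
  chkE (U ++ Z) (Z ++ U) && (chkE (V ++ Z) (Z ++ V) && (chkE (A ++ Z) (Z ++ A) && (chkE (B ++ Z) (Z ++ B) &&
  (chkE (U ++ K) (K ++ U) && (chkE (V ++ K) (K ++ V) && (chkE (A ++ K) (K ++ A) && (chkE (B ++ K) (K ++ B) &&
  (chkE (rp U 3) (rp K c1) && (chkE (rp A 3) (rp K c2) &&
  (chkE (V ++ U) (U ++ (Z ++ V) ++ rp K r1) && (chkE (B ++ A) (A ++ (Z ++ B) ++ rp K r2) &&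
  (chkE (A ++ U) (U ++ A ++ rp K r3) && chkE (B ++ U) (U ++ B ++ rp K r4)))))))))))))

theorem q0 : chkQ (Y ++ rp Z 0) S1 S28 S36 S191 0 0 0 0 1 0 = true := by decide +kernel

theorem q1 : chkQ (Y ++ rp Z 1) S1 S28 S165 S167 0 0 0 1 1 1 = true := by decide +kernel

theorem q2 : chkQ (Y ++ rp Z 2) S1 S28 S41 S260 0 0 0 1 1 0 = true := by decide +kernel

theorem qz : (chkE (rp Z 3) [] && (chkE (rp Y 3) [] && chkE (Y ++ Z) (Z ++ Y))) = true := by decide +kernel

end Cfsg.Agent.H795.S8.SuzW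
end

-- part: H795/S8/SuzC
section
/-!
# Products of two conjugates in `Suz` (helper795)

For the class representatives: products of two conjugates of powers of order divisible by 11 (by 5 for the classes 2A and 3A), and
with a power conjugate to `Z` (class 3B).
-/

set_option autoImplicit false
set_option maxRecDepth 1000000
set_option exponentiation.threshold 5000

namespace Cfsg.Agent.H795.S8.SuzW

open Cfsg Cfsg.Spor Cfsg.Agent.H257.RG.SuzF Cfsg.Agent.H123.Cls Cfsg.Agent.H123.Cls.SuzDat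

def C11 : List (ℕ × List ℕ × List ℕ) := [
  (5, [6, 2, 0, 1, 3], [0, 1]),
  (0, [], []),
  (11, [2, 4, 5, 2], [0, 1]),
  (11, [4, 6, 5, 1], [0, 3]),
  (11, [3, 4, 5, 2, 1], [0, 1]),
  (11, [1, 2], [0, 1]),
  (11, [3, 4, 6, 2, 1, 3, 0, 5], [0, 1]),
  (11, [2, 5, 6, 0], [2, 1]),
  (11, [3, 6, 5, 1], [0, 1]),
  (11, [2, 1, 6], [2, 1]),
  (11, [1, 0, 2], [2, 1]),
  (11, [6, 0, 2, 3, 5], [2, 3]),
  (11, [1, 6, 2, 5], [2, 3]),
  (11, [2, 6, 1, 5, 4], [2, 1]),
  (11, [6, 2, 3, 1, 4, 5, 4, 2, 4, 3, 2, 4, 3, 1, 6, 2, 3, 2, 0, 3, 5, 4], [2, 1]),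
  (11, [0, 1, 5], [0, 3]),
  (11, [3, 1, 6, 4], [0, 3]),
  (11, [5, 6, 4], [2, 1]),
  (11, [4, 5, 1, 0], [2, 1]),
  (11, [3, 0, 2, 6], [2, 3]),
  (11, [4, 5, 2, 1], [0, 3]),
  (11, [6, 5, 0, 2], [0, 1]),
  (11, [6, 4, 0, 3], [0, 1]),
  (11, [2, 5, 3], [0, 1]),
  (11, [1, 5, 4, 6, 2], [0, 1]),
  (11, [6, 5, 1], [0, 3]),
  (11, [0, 3, 4], [2, 1]),
  (11, [4, 3, 6, 2], [2, 3]),
  (11, [5, 4, 6, 3, 5, 4, 1, 6, 5, 4, 5, 1, 5, 2, 1, 5, 6, 5, 4, 1, 4, 0, 4, 0, 6, 3], [0, 1]),
  (11, [3, 1, 2, 4, 3], [0, 3]),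
  (11, [3, 2, 6, 5, 1], [0, 3]),
  (11, [2, 3, 1, 2], [0, 1]),
  (11, [4, 2, 0, 2], [0, 3]),
  (11, [6, 3, 4, 2, 3], [0, 3]),
  (11, [5, 6, 1, 6], [0, 1]),
  (11, [1, 2, 3, 2, 1, 2, 4, 1, 6, 2, 1, 3, 6, 0, 4, 6, 1, 3, 5, 2, 3, 2, 0, 6, 0, 1, 5, 6, 2], [0, 1]),
  (5, [5, 0, 4, 2, 3, 6, 4, 1, 2], [0, 1])]

def C3 : List (List ℕ × List ℕ × ℕ × List ℕ) := [
  ([2, 1, 6, 5, 2, 1, 3, 2, 1], [0, 1], 1, [0, 4, 6, 1, 2, 5, 3, 2, 1, 6, 5, 1, 6, 2, 1, 5, 3]),
  ([], [], 0, []),
  ([6, 5, 6], [2, 3], 1, [0, 1, 2, 4, 5, 1, 2, 0, 1, 6, 3, 2, 3, 4, 3, 1, 2]),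
  ([4, 0, 3, 4], [0, 1], 2, [1, 2, 6, 1, 5, 6, 1, 5, 2, 3, 4, 1, 2, 1, 0]),
  ([2, 1, 2], [0, 1], 3, [0, 4, 3, 2, 1, 3, 2, 3, 4, 3, 2, 3, 1, 2, 3, 4, 0, 1, 0, 1, 2, 1, 0]),
  ([1, 6], [0, 3], 3, [1, 3, 4, 6, 5, 1, 0, 2, 1, 6, 5, 2, 3, 2, 1, 0, 1, 5, 6]),
  ([5, 6, 3], [0, 3], 3, [0, 1, 3, 4, 3, 2, 3, 2, 1, 4, 3, 2, 3, 4, 2, 3, 1, 2, 3, 0, 1, 0, 1, 2]),
  ([4, 6, 2, 0, 5], [0, 1], 1, [1, 3, 4, 3, 2, 5, 1, 2, 0, 1, 6, 2, 3, 0, 1, 2, 1, 0]),
  ([2, 5], [0, 1], 1, [3, 4, 5, 1, 2, 3, 6, 2, 1, 5, 4, 2, 3, 2, 1, 6, 1, 2]),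
  ([1, 6], [0, 1], 3, [0, 3, 6, 1, 5, 4, 3, 2, 3, 2, 1, 6, 2, 1, 0]),
  ([4, 6, 1, 4, 1], [2, 3], 3, [0, 1, 2, 3, 4, 5, 1, 6, 0, 1, 2, 0, 1, 6, 5, 3, 1, 2, 1]),
  ([0, 5, 2, 5], [0, 1], 3, [1, 3, 4, 3, 5, 1, 2, 3, 1, 2, 0, 1, 6, 5, 2, 1]),
  ([6, 3, 5, 4], [0, 1], 3, [1, 6, 1, 2, 0, 1, 6, 5, 2, 3, 1, 0, 1, 2, 1]),
  ([5, 6, 1, 4, 2], [0, 1], 3, [0, 4, 3, 6, 1, 2, 3, 4, 5, 1, 2, 3, 4, 2, 3, 1, 2, 3, 0, 1, 0, 1, 2, 0]),
  ([6, 5, 2, 3, 2], [0, 1], 1, [2, 1, 0, 4, 5, 1, 6, 0, 1, 2, 3, 2, 1, 6, 5, 1, 2, 1, 0]),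
  ([5, 0], [0, 1], 3, [0, 1, 4, 3, 2, 3, 4, 5, 6, 1, 2, 0, 1, 5, 3, 2, 3, 2, 1, 6, 5, 2]),
  ([6, 0], [2, 3], 2, [1, 0, 1, 2, 5, 6, 1, 5, 2, 0, 1, 6, 3, 2, 1, 0, 1]),
  ([6, 5, 6, 2, 6], [0, 3], 3, [1, 0, 4, 3, 2, 3, 4, 5, 1, 2, 3, 4, 2, 3, 1, 2, 3, 2, 1, 0, 1, 2, 0]),
  ([4, 1, 5, 2], [2, 1], 3, [1, 2, 3, 4, 6, 5, 1, 0, 2, 3, 6, 4, 2, 3, 1, 2, 3, 2, 1, 0, 1, 2]),
  ([0, 3, 0, 3, 5], [0, 3], 3, [1, 2, 1, 4, 3, 2, 1, 6, 5, 1, 6, 2, 0, 1, 0, 1]),
  ([1, 3, 2, 6, 2], [0, 1], 3, [4, 3, 2, 3, 4, 5, 1, 2, 3, 4, 2, 3, 1, 2, 3, 2, 1, 0, 1, 2, 1]),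
  ([2, 3], [0, 3], 3, [1, 0, 3, 2, 1, 3, 5, 1, 2, 3, 2, 1, 5, 6, 1, 5, 2, 1]),
  ([4, 3, 6, 1, 0], [0, 3], 2, [2, 1, 6, 1, 5, 2, 1, 6, 2, 1, 5]),
  ([3, 1], [0, 1], 3, [1, 2, 1, 3, 2, 4, 6, 1, 0, 1, 5, 3, 2, 3, 1, 0, 1, 2]),
  ([6, 2, 0, 1, 2], [0, 1], 2, [1, 3, 2, 4, 6, 3, 1, 2, 0, 1, 5, 6, 1, 5, 2, 0]),
  ([1, 5, 4, 6], [2, 3], 3, [3, 4, 3, 2, 1, 3, 2, 3, 4, 3, 2, 3, 1, 2, 3, 2, 1, 0, 1, 5, 2, 0]),
  ([1, 3, 5, 4, 5], [0, 3], 3, [0, 4, 6, 1, 2, 3, 5, 1, 2, 3, 2, 1, 0, 1, 6, 4, 3, 2, 0, 1, 0]),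
  ([5, 4, 3], [2, 1], 3, [0, 1, 4, 3, 2, 1, 3, 2, 3, 4, 3, 2, 3, 1, 2, 3, 2, 1, 0, 1, 2]),
  ([1, 2, 0, 3, 6, 5, 2, 1, 6], [0, 3], 2, [1, 2, 1, 3, 2, 6, 1, 2, 3, 4, 5, 1, 2, 3, 2, 1, 0, 1, 6, 5, 3, 2]),
  ([6, 1, 3, 4], [2, 1], 3, [0, 4, 3, 2, 3, 4, 5, 1, 2, 3, 2, 4, 3, 1, 2, 3, 4, 2, 1, 0, 1, 2, 1]),
  ([2, 6, 2], [2, 3], 2, [3, 4, 3, 2, 1, 0, 3, 2, 5, 3, 1, 2, 3, 2, 1, 6, 5, 1, 0, 1, 0]),
  ([1, 2, 6, 1, 6], [0, 1], 2, [1, 3, 2, 0, 1, 6, 5, 1, 2, 3, 2, 0, 1, 0]),
  ([6, 0, 6], [2, 3], 3, [4, 3, 2, 1, 3, 2, 3, 4, 3, 2, 3, 1, 2, 3, 2, 1, 0, 1, 2]),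
  ([6, 3, 0, 2], [0, 3], 3, [4, 3, 2, 1, 3, 2, 3, 4, 3, 2, 3, 1, 2, 0, 1, 0, 1, 5, 3, 4, 2]),
  ([6, 5, 3, 1, 2], [0, 1], 3, [0, 3, 2, 1, 3, 4, 5, 1, 2, 6, 3, 2, 1, 0, 1, 6, 1, 5, 2, 3, 2]),
  ([1, 0, 1, 4, 2, 6, 5, 1], [0, 3], 2, [3, 2, 1, 0, 4, 5, 3, 1, 2, 0, 1, 5, 6, 1, 5, 6, 2]),
  ([], [], 0, [])]

noncomputable def chk11 (P : ℕ) (c : ℕ × List ℕ × List ℕ) : Bool :=
  c.2.2.isEmpty || (okL c.2.1 && (Nat.beq c.2.2.length 2 && chkW P c.2.1 c.2.1.reverse c.2.2 c.1))

noncomputable def chk3 (P : ℕ) (c : List ℕ × List ℕ × ℕ × List ℕ) : Bool :=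
  c.2.1.isEmpty || (okL c.1 && (Nat.beq c.2.1.length 2 && (okL c.2.2.2 &&
    chkG P c.1 c.1.reverse (rep c.2.2.1 c.2.1) (c.2.2.2 ++ Z ++ c.2.2.2.reverse))))

theorem all11 : ((D.zip C11).all fun z => chk11 z.1.1 z.2) = true := by
  unfold D C11
  decide +kernel

theorem all3 : ((D.zip C3).all fun z => chk3 z.1.1 z.2) = true := by
  unfold D C3
  decide +kernel

/-- an element of order 11 -/
def YE : List ℕ := [3, 2, 1, 6, 5, 4, 1, 2, 3, 2, 1, 5, 6, 4, 3, 2, 3, 2, 1, 4, 6, 5, 1, 2, 3, 2, 1, 4, 3, 2, 5, 6]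

/-- it is normalised by an element of order 10 -/
def BE : List ℕ := [2, 1, 6, 4, 3, 1, 2, 0, 1, 5, 3, 4, 3, 2, 3, 2, 1, 0, 1, 2, 4, 3, 2, 5, 1, 0, 1, 2, 3, 4, 5, 6, 1, 2, 3, 1, 0]

theorem qe : (chkE (rp YE 11) [] && (!(chkE YE []) && (chkE (rp BE 10) [] && chkE (BE ++ YE) (YE ++ YE ++ BE)))) = true := by
  decide +kernel

end Cfsg.Agent.H795.S8.SuzW
end

-- part: H827/S8/Cyc
section
/-!
# S4908: the commutator space of an automorphism of prime order in a Frobenius group (helper827)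

`cyc`: `Λ` elementary abelian of exponent `r`, `a` of prime order `p ≠ r`, `b a b⁻¹ = a ^ k`, `b ^ q = 1` with `k` of order `≥ q`
modulo `p`: then `|Λ : C_Λ(a)| ≥ r ^ q`.
-/

set_option autoImplicit false
set_option linter.unusedSectionVars false

namespace Cfsg.Agent.H827.S8

universe u v

section fixed

variable {X : Type u} [Group X] {L : Type v} [CommGroup L]

theorem norm_fixed' (ρ : X →* MulAut L) (Q : Subgroup X) [Fintype Q] (v : L) (h : X) (hh : h ∈ Q) :
    ρ h (∏ g : Q, ρ (g : X) v) = ∏ g : Q, ρ (g : X) v := by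
  rw [map_prod]
  have h1 : ∀ g : Q, ρ h (ρ (g : X) v) = ρ ((⟨h, hh⟩ * g : Q) : X) v := fun g => by
    rw [← MulAut.mul_apply, ← map_mul]; rfl
  rw [Finset.prod_congr rfl fun g _ => h1 g]
  exact Equiv.prod_comp (Equiv.mulLeft (⟨h, hh⟩ : Q)) fun g : Q => ρ (g : X) v

/-- **Frobenius groups `K : Q`, arbitrary kernel, inside an invariant subgroup.** -/
theorem exists_fix_in (ρ : X →* MulAut L) (K Q : Subgroup X) [Finite K] [Finite Q]
    (hQK : ∀ g ∈ Q, ∀ u ∈ K, g * u * g⁻¹ ∈ K) (hfr : ∀ u ∈ K, ∀ g ∈ Q, g * u = u * g → u = 1 ∨ g = 1)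
    (S : Subgroup L) (hSK : ∀ u ∈ K, ∀ x ∈ S, ρ u x ∈ S) (hSQ : ∀ g ∈ Q, ∀ x ∈ S, ρ g x ∈ S)
    (hne : ∃ u ∈ K, ∃ x ∈ S, (Nat.card K).Coprime (orderOf x) ∧ ρ u x ≠ x) :
    ∃ x ∈ S, x ≠ 1 ∧ ∀ g ∈ Q, ρ g x = x := by
  classical
  by_contra hno
  push Not at hno
  have hQ : ∀ x ∈ S, (∀ g ∈ Q, ρ g x = x) → x = 1 := fun x hxS hx => by
    by_contra h
    obtain ⟨g, hg, hgx⟩ := hno x hxS h
    exact hgx (hx g hg)
  have := Fintype.ofFinite K
  have := Fintype.ofFinite Q
  have h1 : ∀ (u : K), ∀ v ∈ S, ∏ g : Q, ρ ((u : X) * g * (u : X)⁻¹) v = 1 := by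
    intro u v hv
    have h2 : ∀ g : Q, ρ ((u : X) * g * (u : X)⁻¹) v = ρ (u : X) (ρ (g : X) (ρ (u : X)⁻¹ v)) := fun g => by
      rw [map_mul, map_mul, MulAut.mul_apply, MulAut.mul_apply, map_inv]
    have h3 : ρ (u : X)⁻¹ v ∈ S := hSK _ (K.inv_mem u.2) v hv
    have h4 : ∏ g : Q, ρ (g : X) (ρ (u : X)⁻¹ v) = 1 :=
      hQ _ (S.prod_mem fun (g : Q) _ => hSQ (g : X) g.2 _ h3) fun h hh => norm_fixed' ρ Q (ρ (u : X)⁻¹ v) h hh
    rw [Finset.prod_congr rfl fun g _ => h2 g, ← map_prod, h4, map_one]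
  have h3 : ∀ (g : Q), g ≠ 1 → ∀ v : L, ∏ u : K, ρ ((u : X) * g * (u : X)⁻¹) v = ∏ u : K, ρ (u : X) (ρ (g : X) v) := by
    intro g hg v
    let f : K → K := fun u => ⟨(u : X) * (g * (u : X)⁻¹ * (g : X)⁻¹), K.mul_mem u.2 (hQK g g.2 _ (K.inv_mem u.2))⟩
    have hf : Function.Injective f := by
      intro a b hab
      have h4 : (a : X) * (g * (a : X)⁻¹ * (g : X)⁻¹) = (b : X) * (g * (b : X)⁻¹ * (g : X)⁻¹) := congrArg Subtype.val hab
      have h5 : (g : X) * ((b : X)⁻¹ * a) = ((b : X)⁻¹ * a) * g := by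
        have h6 : ((b : X)⁻¹ * a) * (g : X) * ((a : X)⁻¹) = g * (b : X)⁻¹ := by
          calc ((b : X)⁻¹ * a) * (g : X) * ((a : X)⁻¹) = (b : X)⁻¹ * (a * (g * (a : X)⁻¹ * (g : X)⁻¹)) * g := by group
            _ = (b : X)⁻¹ * ((b : X) * (g * (b : X)⁻¹ * (g : X)⁻¹)) * g := by rw [h4]
            _ = g * (b : X)⁻¹ := by group
        calc (g : X) * ((b : X)⁻¹ * a) = (g * (b : X)⁻¹) * a := by group
          _ = ((b : X)⁻¹ * a) * (g : X) * ((a : X)⁻¹) * a := by rw [h6]
          _ = ((b : X)⁻¹ * a) * g := by group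
      rcases hfr _ (K.mul_mem (K.inv_mem b.2) a.2) g g.2 h5 with h6 | h6
      · exact Subtype.ext (inv_mul_eq_one.1 h6).symm
      · exact absurd (Subtype.ext h6) hg
    have hb : Function.Bijective f := Finite.injective_iff_bijective.1 hf
    have h7 : ∀ u : K, ρ ((u : X) * g * (u : X)⁻¹) v = ρ ((f u : K) : X) (ρ (g : X) v) := fun u => by
      rw [← MulAut.mul_apply, ← map_mul]
      congr 2
      change _ = (u : X) * (g * (u : X)⁻¹ * (g : X)⁻¹) * g
      group
    rw [Finset.prod_congr rfl fun u _ => h7 u]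
    exact Function.Bijective.prod_comp hb fun u : K => ρ (u : X) (ρ (g : X) v)
  have h8 : ∀ v ∈ S, ∀ k ∈ K, ρ k (v ^ Nat.card K) = v ^ Nat.card K := by
    intro v hv k hk
    have h9 : ∏ u : K, ∏ g : Q, ρ ((u : X) * g * (u : X)⁻¹) v = 1 := Finset.prod_eq_one fun u _ => h1 u v hv
    rw [Finset.prod_comm, ← Finset.mul_prod_erase _ _ (Finset.mem_univ (1 : Q))] at h9
    have h10 : ∏ u : K, ρ ((u : X) * ((1 : Q) : X) * (u : X)⁻¹) v = v ^ Nat.card K := by
      rw [Finset.prod_congr rfl (g := fun _ => v) fun u _ => by simp, Finset.prod_const, Finset.card_univ,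
        Nat.card_eq_fintype_card]
    rw [h10] at h9
    have h11 : ∏ g ∈ Finset.univ.erase (1 : Q), ∏ u : K, ρ ((u : X) * g * (u : X)⁻¹) v =
        ∏ g ∈ Finset.univ.erase (1 : Q), ∏ u : K, ρ (u : X) (ρ (g : X) v) :=
      Finset.prod_congr rfl fun g hg => h3 g (Finset.ne_of_mem_erase hg) v
    rw [h11] at h9
    have h12 : v ^ Nat.card K = (∏ g ∈ Finset.univ.erase (1 : Q), ∏ u : K, ρ (u : X) (ρ (g : X) v))⁻¹ :=
      eq_inv_of_mul_eq_one_left h9
    rw [h12, map_inv, map_prod]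
    congr 1
    exact Finset.prod_congr rfl fun g _ => norm_fixed' ρ K _ k hk
  obtain ⟨k, hk, x, hxS, hcop, hx⟩ := hne
  refine hx ?_
  obtain ⟨m, hm⟩ := exists_pow_eq_self_of_coprime (x := x) (n := Nat.card K) hcop
  rw [← hm, map_pow, h8 x hxS k hk]

end fixed

section linear

open Polynomial

variable {r : ℕ} [Fact r.Prime] {V : Type v} [AddCommGroup V] [Module (ZMod r) V]

theorem aeval_comm {A B : Module.End (ZMod r) V} {k : ℕ} (h : B * A = A ^ k * B) (f : (ZMod r)[X]) :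
    B * aeval A f = aeval (A ^ k) f * B := by
  induction f using Polynomial.induction_on' with
  | add p q hp hq => rw [map_add, map_add, mul_add, add_mul, hp, hq]
  | monomial n c =>
    have h1 : ∀ n : ℕ, B * A ^ n = (A ^ k) ^ n * B := by
      intro n
      induction n with
      | zero => simp
      | succ n ih => rw [pow_succ, ← mul_assoc, ih, mul_assoc, h, ← mul_assoc, ← pow_succ]
    rw [aeval_monomial, aeval_monomial, ← mul_assoc, ← Algebra.commutes, mul_assoc, h1, mul_assoc]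

/-- the annihilator of a vector -/
def ann (A : Module.End (ZMod r) V) (x : V) : Ideal (ZMod r)[X] where
  carrier := {f | aeval A f x = 0}
  add_mem' := fun {a b} ha hb => by
    change aeval A (a + b) x = 0
    rw [map_add, LinearMap.add_apply, show aeval A a x = 0 from ha, show aeval A b x = 0 from hb, add_zero]
  zero_mem' := by change aeval A 0 x = 0; rw [map_zero, LinearMap.zero_apply]
  smul_mem' := fun c f hf => by
    change aeval A (c * f) x = 0
    rw [map_mul, Module.End.mul_apply, show aeval A f x = 0 from hf, map_zero]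

theorem mem_ann {A : Module.End (ZMod r) V} {x : V} {f : (ZMod r)[X]} : f ∈ ann A x ↔ aeval A f x = 0 := Iff.rfl

/-- `q` independent vectors `A ^ i x` -/
theorem pow_le_card {p q k : ℕ} (hp : p.Prime) (hrp : r ≠ p) {A B : Module.End (ZMod r) V} {x : V}
    (hx : x ≠ 0) (hBx : B x = x) (hBA : B * A = A ^ k * B) (hN : (∑ i ∈ Finset.range p, A ^ i) x = 0)
    (hkp : k.Coprime p) (hk : ∀ i, 0 < i → i < q → ¬ k ^ i ≡ 1 [MOD p]) (W : Submodule (ZMod r) V) [Finite W]
    (hxW : ∀ i : ℕ, (A ^ i) x ∈ W) : r ^ q ≤ Nat.card W := by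
  classical
  have hJ : ann A x ≠ ⊤ := by
    intro h
    have h1 : (1 : (ZMod r)[X]) ∈ ann A x := h ▸ Submodule.mem_top
    rw [mem_ann, map_one] at h1
    exact hx h1
  obtain ⟨M, hM, hJM⟩ := Ideal.exists_le_maximal _ hJ
  let F := (ZMod r)[X] ⧸ M
  let _ : Field F := Ideal.Quotient.field M
  let ζ : F := Ideal.Quotient.mk M X
  have hev : ∀ f : (ZMod r)[X], aeval ζ f = Ideal.Quotient.mk M f := by
    intro f
    have h1 : (aeval ζ : (ZMod r)[X] →ₐ[ZMod r] F) = Ideal.Quotient.mkₐ (ZMod r) M := by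
      apply Polynomial.algHom_ext
      rw [aeval_X]
      rfl
    rw [h1]
    rfl
  have hroot : ∀ f ∈ ann A x, aeval ζ f = 0 := fun f hf => by
    rw [hev]
    exact Ideal.Quotient.eq_zero_iff_mem.2 (hJM hf)
  have hexp : ∀ f ∈ ann A x, expand (ZMod r) k f ∈ ann A x := by
    intro f hf
    rw [mem_ann] at hf ⊢
    rw [expand_eq_comp_X_pow, aeval_comp, map_pow, aeval_X]
    have h1 := congrArg (fun T : Module.End (ZMod r) V => T x) (aeval_comm hBA f)
    simp only [Module.End.mul_apply] at h1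
    rw [hf, map_zero, hBx] at h1
    exact h1.symm
  have hroot' : ∀ (i : ℕ), ∀ f ∈ ann A x, aeval (ζ ^ k ^ i) f = 0 := by
    intro i
    induction i with
    | zero => intro f hf; rw [pow_zero, pow_one]; exact hroot f hf
    | succ i ih =>
      intro f hf
      have h1 := ih _ (hexp f hf)
      rw [expand_aeval, ← pow_mul, ← pow_succ] at h1
      exact h1
  -- `ζ` is a primitive `p`-th root of unity
  have hΦ : (∑ i ∈ Finset.range p, (X : (ZMod r)[X]) ^ i) ∈ ann A x := by
    rw [mem_ann, map_sum]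
    simp only [map_pow, aeval_X]
    exact hN
  have hΦζ : ∑ i ∈ Finset.range p, ζ ^ i = 0 := by
    have h1 := hroot _ hΦ
    rw [map_sum] at h1
    simpa only [map_pow, aeval_X] using h1
  have hζp : ζ ^ p = 1 := by
    have h1 := geom_sum_mul ζ p
    rw [hΦζ, zero_mul] at h1
    exact (sub_eq_zero.1 h1.symm)
  have hchar : CharP F r := charP_of_injective_algebraMap (algebraMap (ZMod r) F).injective r
  have hζ1 : ζ ≠ 1 := by
    intro h1
    rw [h1] at hΦζ
    simp only [one_pow, Finset.sum_const, Finset.card_range, nsmul_eq_mul, mul_one] at hΦζ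
    have h2 : r ∣ p := (CharP.cast_eq_zero_iff F r p).1 hΦζ
    exact hrp ((Nat.prime_dvd_prime_iff_eq Fact.out hp).1 h2)
  have hord : orderOf ζ = p := by
    have : Fact p.Prime := ⟨hp⟩
    exact orderOf_eq_prime hζp hζ1
  have hζ0 : ζ ≠ 0 := by
    intro h1
    rw [h1, zero_pow hp.ne_zero] at hζp
    exact zero_ne_one hζp
  have hinj : Function.Injective fun i : Fin q => ζ ^ k ^ (i : ℕ) := by
    have key : ∀ i j : ℕ, i < j → j < q → ζ ^ k ^ i ≠ ζ ^ k ^ j := by
      intro i j hij hj h1'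
      have hu : orderOf (Units.mk0 ζ hζ0) = p := by rw [← orderOf_units, Units.val_mk0, hord]
      have h1 : (Units.mk0 ζ hζ0) ^ k ^ i = (Units.mk0 ζ hζ0) ^ k ^ j := Units.ext h1'
      rw [pow_eq_pow_iff_modEq, hu] at h1
      obtain ⟨t, rfl⟩ := Nat.exists_eq_add_of_lt hij
      have h2 : k ^ i * 1 ≡ k ^ i * k ^ (t + 1) [MOD p] := by
        rw [mul_one, ← pow_add, ← add_assoc]; exact h1
      have h3 := Nat.ModEq.cancel_left_of_coprime (show Nat.gcd p (k ^ i) = 1 from (Nat.Coprime.pow_left i hkp).symm) h2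
      exact hk (t + 1) (Nat.succ_pos t) (by omega) h3.symm
    intro i j hij
    rcases lt_trichotomy (i : ℕ) (j : ℕ) with h | h | h
    · exact absurd hij (key _ _ h j.2)
    · exact Fin.ext h
    · exact absurd hij.symm (key _ _ h i.2)
  -- the injection
  let φ : (Fin q → ZMod r) → W := fun c => ⟨∑ i, c i • (A ^ (i : ℕ)) x, W.sum_mem fun i _ => W.smul_mem _ (hxW i)⟩
  have hφ : Function.Injective φ := by
    intro c d hcd
    have h1 : ∑ i, c i • (A ^ (i : ℕ)) x = ∑ i, d i • (A ^ (i : ℕ)) x := congrArg Subtype.val hcd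
    let f : (ZMod r)[X] := ∑ i : Fin q, C (c i - d i) * X ^ (i : ℕ)
    have hf : f ∈ ann A x := by
      rw [mem_ann, map_sum, LinearMap.sum_apply]
      have h2 : ∀ i : Fin q, (aeval A (C (c i - d i) * X ^ (i : ℕ))) x = c i • (A ^ (i : ℕ)) x - d i • (A ^ (i : ℕ)) x := by
        intro i
        rw [map_mul, aeval_C, map_pow, aeval_X, Module.End.mul_apply, Module.algebraMap_end_apply, sub_smul]
      rw [Finset.sum_congr rfl fun i _ => h2 i, Finset.sum_sub_distrib, h1, sub_self]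
    have hdeg : ∀ g : Fin q → ZMod r, (∑ i : Fin q, C (g i) * X ^ (i : ℕ) : (ZMod r)[X]).degree < q := by
      intro g
      refine (degree_sum_le _ _).trans_lt ((Finset.sup_lt_iff (WithBot.bot_lt_coe q)).2 fun i _ => ?_)
      exact (degree_C_mul_X_pow_le _ _).trans_lt (WithBot.coe_lt_coe.2 i.2)
    have hf0 : f.map (algebraMap (ZMod r) F) = 0 := by
      rcases Nat.eq_zero_or_pos q with hq0 | hq0
      · subst hq0
        change (∑ i : Fin 0, _ : (ZMod r)[X]).map _ = 0
        rw [Finset.univ_eq_empty, Finset.sum_empty, Polynomial.map_zero]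
      by_contra hne
      refine hne (Polynomial.eq_zero_of_natDegree_lt_card_of_eval_eq_zero _ hinj (fun i => ?_) ?_)
      · rw [eval_map_algebraMap]
        exact hroot' i f hf
      · rw [Fintype.card_fin]
        have h3 : (f.map (algebraMap (ZMod r) F)).degree < q := by
          rw [degree_map]
          exact hdeg _
        exact (natDegree_lt_iff_degree_lt hne).2 h3
    have hf1 : f = 0 := (Polynomial.map_eq_zero (algebraMap (ZMod r) F)).1 hf0
    funext i
    have h4 : f.coeff (i : ℕ) = c i - d i := by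
      rw [finsetSum_coeff, Finset.sum_eq_single i]
      · rw [coeff_C_mul_X_pow, if_pos rfl]
      · intro j _ hj
        rw [coeff_C_mul_X_pow, if_neg fun h => hj (Fin.ext h.symm)]
      · intro h; exact absurd (Finset.mem_univ i) h
    rw [hf1, coeff_zero] at h4
    exact (sub_eq_zero.1 h4.symm)
  have h5 := Nat.card_le_card_of_injective φ hφ
  rw [Nat.card_fun, Nat.card_eq_fintype_card, Nat.card_eq_fintype_card, Fintype.card_fin, ZMod.card] at h5
  exact h5

theorem zlin_pow (a : V →+ V) (i : ℕ) (y : V) :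
    ((AddMonoidHom.toZModLinearMap r a : V →ₗ[ZMod r] V) ^ i) y = a^[i] y := by
  rw [Module.End.pow_apply]
  rfl

/-- the same for additive maps -/
theorem pow_le_card_add {p q k : ℕ} (hp : p.Prime) (hrp : r ≠ p) (a b : V →+ V)
    {x : V} (hx : x ≠ 0) (hbx : b x = x) (hba : ∀ y, b (a y) = a^[k] (b y))
    (hN : ∑ i ∈ Finset.range p, a^[i] x = 0) (hkp : k.Coprime p) (hk : ∀ i, 0 < i → i < q → ¬ k ^ i ≡ 1 [MOD p])
    (W : AddSubgroup V) [hW : Finite W] (hxW : ∀ i : ℕ, a^[i] x ∈ W) : r ^ q ≤ Nat.card W := by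
  have hfin : Finite (AddSubgroup.toZModSubmodule r W) := hW
  exact pow_le_card (q := q) hp hrp (A := AddMonoidHom.toZModLinearMap r a) (B := AddMonoidHom.toZModLinearMap r b)
    (x := x) (k := k) hx hbx
    (by
      refine LinearMap.ext fun y => ?_
      rw [Module.End.mul_apply, Module.End.mul_apply, zlin_pow]
      exact hba y)
    (by
      rw [LinearMap.sum_apply, Finset.sum_congr rfl fun i _ => zlin_pow a i x]
      exact hN)
    hkp hk (AddSubgroup.toZModSubmodule r W) (fun i => by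
      rw [zlin_pow]
      exact hxW i)

end linear

section main

variable {Λ : Type v} [CommGroup Λ]

theorem pow_div_mem (a : MulAut Λ) (W : Subgroup Λ) (hW : ∀ x : Λ, a x / x ∈ W) (k : ℕ) (x : Λ) : (a ^ k) x / x ∈ W := by
  induction k with
  | zero => rw [pow_zero, MulAut.one_apply, div_self']; exact W.one_mem
  | succ k ih =>
    have h1 : (a ^ (k + 1)) x / x = (a ((a ^ k) x) / (a ^ k) x) * ((a ^ k) x / x) := by
      rw [pow_succ', MulAut.mul_apply, div_mul_div_cancel]
    rw [h1]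
    exact W.mul_mem (hW _) ih

/-- **the commutator space of `a`** -/
theorem cyc [Finite Λ] {r p q k : ℕ} (hr : r.Prime) (hp : p.Prime) (hrp : r ≠ p) (hexp : ∀ x : Λ, x ^ r = 1)
    (a b : MulAut Λ) (ha : a ^ p = 1) (ha1 : a ≠ 1) (hq : 0 < q) (hb : b ^ q = 1) (hab : b * a * b⁻¹ = a ^ k)
    (hk : ∀ i, 0 < i → i < q → ¬ k ^ i ≡ 1 [MOD p]) : r ^ q * Nat.card {x : Λ // a x = x} ≤ Nat.card Λ := by
  classical
  have : Fact r.Prime := ⟨hr⟩
  have : Fact p.Prime := ⟨hp⟩
  have hao : orderOf a = p := orderOf_eq_prime ha ha1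
  -- the homomorphism `x ↦ a x / x`
  let φ : Λ →* Λ :=
    { toFun := fun x => a x / x
      map_one' := by rw [map_one, div_one]
      map_mul' := fun x y => by rw [map_mul, mul_div_mul_comm] }
  have hφ : ∀ x, φ x = a x / x := fun x => rfl
  have hcard : Nat.card φ.range * Nat.card {x : Λ // a x = x} = Nat.card Λ := by
    have h1 : Nat.card {x : Λ // a x = x} = Nat.card φ.ker := by
      refine Nat.card_congr (Equiv.subtypeEquivRight fun x => ?_)
      rw [MonoidHom.mem_ker, hφ, div_eq_one]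
    rw [h1, mul_comm, ← Subgroup.index_ker, Subgroup.card_mul_index]
  rw [← hcard]
  refine Nat.mul_le_mul_right _ ?_
  -- `k` is prime to `p`
  have hkp : k.Coprime p := by
    rw [Nat.coprime_comm, Nat.Prime.coprime_iff_not_dvd hp]
    intro h1
    have h2 : a ^ k = 1 := by
      obtain ⟨m, rfl⟩ := h1
      rw [pow_mul, ha, one_pow]
    rw [h2] at hab
    have h3 : a = b⁻¹ * (b * a * b⁻¹) * b := by group
    rw [hab, mul_one, inv_mul_cancel] at h3
    exact ha1 h3
  have hbai : ∀ i : ℕ, b ^ i * a * (b ^ i)⁻¹ = a ^ k ^ i := by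
    intro i
    induction i with
    | zero => simp
    | succ i ih =>
      calc b ^ (i + 1) * a * (b ^ (i + 1))⁻¹ = b * (b ^ i * a * (b ^ i)⁻¹) * b⁻¹ := by rw [pow_succ']; group
        _ = (b * a * b⁻¹) ^ k ^ i := by rw [ih, conj_pow]
        _ = a ^ k ^ (i + 1) := by rw [hab, ← pow_mul, pow_succ']
  have hbaj : ∀ i j : ℕ, b ^ i * a ^ j * (b ^ i)⁻¹ = a ^ (k ^ i * j) := by
    intro i j
    rw [← conj_pow, hbai, ← pow_mul]
  have hWa : ∀ j : ℕ, ∀ x ∈ φ.range, (a ^ j) x ∈ φ.range := by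
    rintro j _ ⟨y, rfl⟩
    refine ⟨(a ^ j) y, ?_⟩
    rw [hφ, hφ, map_div, ← MulAut.mul_apply, ← MulAut.mul_apply, ← pow_succ, ← pow_succ']
  have hWb : ∀ i : ℕ, ∀ x ∈ φ.range, (b ^ i) x ∈ φ.range := by
    rintro i _ ⟨y, rfl⟩
    have h1 : (b ^ i) (φ y) = (a ^ k ^ i) ((b ^ i) y) / (b ^ i) y := by
      rw [hφ, map_div, ← MulAut.mul_apply, ← MulAut.mul_apply, ← hbai]
      congr 2
      group
    rw [h1]
    exact pow_div_mem a φ.range (fun x => ⟨x, rfl⟩) _ _
  have hnorm : ∀ x ∈ φ.range, ∏ i ∈ Finset.range p, (a ^ i) x = 1 := by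
    rintro _ ⟨y, rfl⟩
    have h1 : ∀ i : ℕ, (a ^ i) (φ y) = (a ^ (i + 1)) y / (a ^ i) y := fun i => by
      rw [hφ, map_div, ← MulAut.mul_apply, ← pow_succ]
    rw [Finset.prod_congr rfl fun i _ => h1 i, Finset.prod_range_div (fun i => (a ^ i) y) p, ha, pow_zero,
      MulAut.one_apply, div_self']
  -- a fixed point of `b`
  have hpow : ∀ g ∈ Subgroup.zpowers b, ∃ i : ℕ, i < q ∧ g = b ^ i := by
    intro g hg
    obtain ⟨m, hm⟩ := Subgroup.mem_zpowers_iff.1 hg
    refine ⟨(m % q).toNat, ?_, ?_⟩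
    · have h1 := Int.emod_lt_of_pos m (Int.natCast_pos.2 hq)
      have h2 := Int.emod_nonneg m (Int.natCast_ne_zero.2 hq.ne')
      omega
    · have h2 := Int.emod_nonneg m (Int.natCast_ne_zero.2 hq.ne')
      rw [← zpow_natCast, Int.toNat_of_nonneg h2, ← hm]
      conv_lhs => rw [← Int.emod_add_mul_ediv m q]
      rw [zpow_add, zpow_mul, zpow_natCast, hb, one_zpow, mul_one]
  have hpowa : ∀ u ∈ Subgroup.zpowers a, ∃ j : ℕ, u = a ^ j := by
    intro u hu
    obtain ⟨j, hj⟩ := (mem_powers_iff_mem_zpowers (x := a)).2 hu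
    exact ⟨j, hj.symm⟩
  obtain ⟨x, hxW, hx1, hxb⟩ := exists_fix_in (MonoidHom.id (MulAut Λ)) (Subgroup.zpowers a) (Subgroup.zpowers b)
    (by
      intro g hg u hu
      obtain ⟨i, -, rfl⟩ := hpow g hg
      obtain ⟨j, rfl⟩ := hpowa u hu
      rw [hbaj]
      exact ⟨((k ^ i * j : ℕ) : ℤ), zpow_natCast _ _⟩)
    (by
      intro u hu g hg h
      obtain ⟨i, hi, rfl⟩ := hpow g hg
      obtain ⟨j, rfl⟩ := hpowa u hu
      by_contra hne
      push Not at hne
      obtain ⟨h1, h2⟩ := hne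
      have hi0 : 0 < i := Nat.pos_of_ne_zero fun h3 => h2 (by rw [h3, pow_zero])
      refine hk i hi0 hi ?_
      have h3 : a ^ (k ^ i * j) = a ^ j := by
        rw [← hbaj, h]; group
      rw [pow_eq_pow_iff_modEq, hao] at h3
      have hjp : ¬ p ∣ j := fun h4 => h1 (by
        obtain ⟨m, rfl⟩ := h4
        rw [pow_mul, ha, one_pow])
      have h4 : j * k ^ i ≡ j * 1 [MOD p] := by rw [mul_comm, mul_one]; exact h3
      exact Nat.ModEq.cancel_left_of_coprime ((Nat.Prime.coprime_iff_not_dvd hp).2 hjp) h4)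
    φ.range
    (by
      intro u hu x hx
      obtain ⟨j, rfl⟩ := hpowa u hu
      exact hWa j x hx)
    (by
      intro g hg x hx
      obtain ⟨i, -, rfl⟩ := hpow g hg
      exact hWb i x hx)
    (by
      have h1 : ∃ v, a v ≠ v := by
        by_contra h
        push Not at h
        exact ha1 (MulEquiv.ext h)
      obtain ⟨v, hv⟩ := h1
      have hcop : p.Coprime r := (Nat.coprime_primes hp hr).2 (Ne.symm hrp)
      refine ⟨a, Subgroup.mem_zpowers a, φ v, ⟨v, rfl⟩, ?_, ?_⟩
      · rw [Nat.card_zpowers, hao]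
        exact Nat.Coprime.coprime_dvd_right (orderOf_dvd_of_pow_eq_one (hexp _)) hcop
      · intro h2
        have h3 : ∀ i : ℕ, (a ^ i) (φ v) = φ v := by
          intro i
          induction i with
          | zero => rfl
          | succ i ih => rw [pow_succ, MulAut.mul_apply]; exact (congrArg _ h2).trans ih
        have h4 := hnorm (φ v) ⟨v, rfl⟩
        rw [Finset.prod_congr rfl fun i _ => h3 i, Finset.prod_const, Finset.card_range] at h4
        have h5 : φ v = 1 := by
          have h6 : orderOf (φ v) ∣ 1 := by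
            have := Nat.dvd_gcd (orderOf_dvd_of_pow_eq_one h4) (orderOf_dvd_of_pow_eq_one (hexp (φ v)))
            rwa [hcop] at this
          exact orderOf_eq_one_iff.1 (Nat.dvd_one.1 h6)
        exact hv (div_eq_one.1 h5))
  -- the linear algebra
  have hA : ∀ (i : ℕ) (y : Λ), ((MulEquiv.toAdditive a).toAddMonoidHom : Additive Λ → Additive Λ)^[i] (Additive.ofMul y) =
      Additive.ofMul ((a ^ i) y) := by
    intro i
    induction i with
    | zero => intro y; rfl
    | succ i ih =>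
      intro y
      rw [Function.iterate_succ_apply, pow_succ, MulAut.mul_apply]
      exact ih (a y)
  let _ : Module (ZMod r) (Additive Λ) := AddCommGroup.zmodModule (n := r) fun v => congrArg Additive.ofMul (hexp v.toMul)
  exact pow_le_card_add (q := q) (k := k) hp hrp (MulEquiv.toAdditive a).toAddMonoidHom
    (MulEquiv.toAdditive b).toAddMonoidHom (x := Additive.ofMul x) (fun h => hx1 h)
    (congrArg Additive.ofMul (hxb b (Subgroup.mem_zpowers b)))
    (fun y => by
      have h1 : b (a y.toMul) = (a ^ k) (b y.toMul) := by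
        rw [← hab, MulAut.mul_apply, MulAut.mul_apply, MulAut.inv_apply_self]
      exact (congrArg Additive.ofMul h1).trans (hA k (b y.toMul)).symm)
    (by
      rw [Finset.sum_congr rfl fun i _ => hA i x, ← ofMul_prod]
      exact congrArg Additive.ofMul (hnorm x hxW))
    hkp hk (Subgroup.toAddSubgroup φ.range) (fun i => by
      rw [hA]
      exact hWa i x hxW)

end main

end Cfsg.Agent.H827.S8
end

-- part: H795/S8/Tw
section
/-!
# Codimensions over all modules of a group (helper795)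

* `Good X p q g` : `q ≤ |A : C_A(g)|` for all nontrivial modules `A` of exponent `p`; invariant under automorphisms;
* `good_cyc` : an element of prime order normalised by an element of order `q`.
-/

set_option autoImplicit false
set_option linter.unusedSectionVars false

namespace Cfsg.Agent.H795.S8

open Cfsg Cfsg.Agent.H320.SD

universe u v

variable {X : Type v} [Group X]

/-- the module twisted by an automorphism -/
def Tw (_ : MulAut X) (A : Type u) : Type u := A

instance twGroup (α : MulAut X) (A : Type u) [h : AddCommGroup A] : AddCommGroup (Tw α A) := h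

instance twFinite (α : MulAut X) (A : Type u) [h : Finite A] : Finite (Tw α A) := h

instance twAct (α : MulAut X) (A : Type u) [AddCommGroup A] [DistribMulAction X A] : DistribMulAction X (Tw α A) where
  smul g a := (α g • (show A from a) : A)
  one_smul a := by
    show (α 1 • (show A from a) : A) = a
    rw [map_one, one_smul]
  mul_smul g h a := by
    show (α (g * h) • (show A from a) : A) = α g • α h • (show A from a)
    rw [map_mul, mul_smul]
  smul_zero g := smul_zero (A := A) (α g)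
  smul_add g a b := smul_add (A := A) (α g) a b

/-- `q ≤ |A : C_A(g)|` for all nontrivial finite modules of exponent `p` -/
def Good (X : Type v) [Group X] (p q : ℕ) (g : X) : Prop :=
  ∀ (A : Type u) [AddCommGroup A] [Finite A] [DistribMulAction X A], (∀ x : A, p • x = 0) →
    (∃ (h : X) (x : A), h • x ≠ x) → q ≤ (fx A g).index

theorem Good.aut {p q : ℕ} {g : X} (h : Good.{u} X p q g) (α : MulAut X) : Good.{u} X p q (α g) := by
  intro A _ _ _ hp hn
  have h1 : q ≤ (fx (Tw α A) g).index := by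
    refine h (Tw α A) hp ?_
    obtain ⟨k, x, hx⟩ := hn
    refine ⟨α.symm k, x, ?_⟩
    show (α (α.symm k) • (x : A) : A) ≠ x
    rwa [MulEquiv.apply_symm_apply]
  exact h1

section one

variable {A : Type u} [AddCommGroup A] [DistribMulAction X A]

/-- the action as automorphisms of the multiplicative group -/
def act (X : Type v) [Group X] (A : Type u) [AddCommGroup A] [DistribMulAction X A] : X →* MulAut (Multiplicative A) where
  toFun g :=
    { toFun := fun x => Multiplicative.ofAdd (g • Multiplicative.toAdd x)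
      invFun := fun x => Multiplicative.ofAdd (g⁻¹ • Multiplicative.toAdd x)
      left_inv := fun x => by
        show Multiplicative.ofAdd (g⁻¹ • g • Multiplicative.toAdd x) = x
        rw [inv_smul_smul, ofAdd_toAdd]
      right_inv := fun x => by
        show Multiplicative.ofAdd (g • g⁻¹ • Multiplicative.toAdd x) = x
        rw [smul_inv_smul, ofAdd_toAdd]
      map_mul' := fun x y => by
        show Multiplicative.ofAdd (g • (Multiplicative.toAdd x + Multiplicative.toAdd y)) = _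
        rw [smul_add, ofAdd_add] }
  map_one' := by
    ext x
    show Multiplicative.ofAdd ((1 : X) • Multiplicative.toAdd x) = x
    rw [one_smul, ofAdd_toAdd]
  map_mul' g h := by
    ext x
    show Multiplicative.ofAdd ((g * h) • Multiplicative.toAdd x) = Multiplicative.ofAdd (g • h • Multiplicative.toAdd x)
    rw [mul_smul]

/-- a nontrivial module of a simple group is faithful -/
theorem faith [IsSimpleGroup X] (hn : ∃ (h : X) (x : A), h • x ≠ x) {z : X} (hz : z ≠ 1) : ∃ x : A, z • x ≠ x := by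
  by_contra hc
  push Not at hc
  let f : X →* MulAut (Multiplicative A) := act X A
  have hf : ∀ g : X, g ∈ f.ker ↔ ∀ x : A, g • x = x := by
    intro g
    rw [MonoidHom.mem_ker]
    constructor
    · intro h x
      have h1 := DFunLike.congr_fun h (Multiplicative.ofAdd x)
      exact Multiplicative.ofAdd.injective h1
    · intro h
      ext x
      exact congrArg Multiplicative.ofAdd (h (Multiplicative.toAdd x))
  rcases IsSimpleGroup.eq_bot_or_eq_top_of_normal f.ker inferInstance with h | h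
  · have h1 := (hf z).2 hc
    rw [h, Subgroup.mem_bot] at h1
    exact hz h1
  · obtain ⟨g, x, hx⟩ := hn
    have h1 : g ∈ f.ker := by rw [h]; exact Subgroup.mem_top g
    exact hx ((hf g).1 h1 x)

variable [Finite A]

theorem index_pow (g : X) (n : ℕ) : (fx A (g ^ n)).index ≤ (fx A g).index := by
  refine AddSubgroup.index_antitone ?_
  intro x hx
  rw [mem_fx] at hx ⊢
  induction n with
  | zero => rw [pow_zero, one_smul]
  | succ n ih => rw [pow_succ, mul_smul, hx, ih]

theorem index_one : (fx A (1 : X)).index = 1 := by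
  rw [AddSubgroup.index_eq_one]
  ext x
  simp [mem_fx]

/-- the index is a power of `p` -/
theorem index_prime_pow {p : ℕ} (hp : p.Prime) (hA : ∀ x : A, p • x = 0) (g : X) : ∃ k : ℕ, (fx A g).index = p ^ k := by
  have : Fact p.Prime := ⟨hp⟩
  have h1 : IsPGroup p (Multiplicative A) := by
    intro x
    refine ⟨1, ?_⟩
    rw [pow_one]
    exact hA (Multiplicative.toAdd x)
  obtain ⟨n, hn⟩ := IsPGroup.iff_card.1 h1
  have h2 : (fx A g).index ∣ p ^ n := by
    rw [← hn]
    exact (AddSubgroup.index_dvd_card (fx A g))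
  obtain ⟨k, -, hk⟩ := (Nat.dvd_prime_pow hp).1 h2
  exact ⟨k, hk⟩

end one

/-- **an element of prime order, normalised by an element of order `q`** -/
theorem good_cyc [IsSimpleGroup X] {r p q k : ℕ} (hr : r.Prime) (hp : p.Prime) (hrp : r ≠ p) {a b : X} (ha : a ^ p = 1)
    (ha1 : a ≠ 1) (hq : 0 < q) (hb : b ^ q = 1) (hab : b * a * b⁻¹ = a ^ k)
    (hk : ∀ i, 0 < i → i < q → ¬ k ^ i ≡ 1 [MOD p]) : Good.{u} X r (r ^ q) a := by
  intro A _ _ _ hA hn
  let ρ : X →* MulAut (Multiplicative A) := act X A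
  have hρ : ∀ (g : X) (x : A), ρ g (Multiplicative.ofAdd x) = Multiplicative.ofAdd (g • x) := fun g x => rfl
  have hρ1 : ρ a ≠ 1 := by
    intro h
    obtain ⟨x, hx⟩ := faith hn ha1
    apply hx
    have h1 := DFunLike.congr_fun h (Multiplicative.ofAdd x)
    rw [hρ] at h1
    exact Multiplicative.ofAdd.injective h1
  have h := Cfsg.Agent.H827.S8.cyc (Λ := Multiplicative A) hr hp hrp (fun x => hA (Multiplicative.toAdd x)) (ρ a) (ρ b)
    (by rw [← map_pow, ha, map_one]) hρ1 hq (by rw [← map_pow, hb, map_one])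
    (by rw [← map_mul, ← map_inv, ← map_mul, hab, map_pow]) hk
  have h2 : Nat.card {x : Multiplicative A // ρ a x = x} = Nat.card (fx A a) := by
    refine Nat.card_congr ⟨fun x => ⟨Multiplicative.toAdd x.1, ?_⟩, fun x => ⟨Multiplicative.ofAdd (x : A), ?_⟩,
      fun x => rfl, fun x => rfl⟩
    · exact congrArg Multiplicative.toAdd x.2
    · show ρ a (Multiplicative.ofAdd (x : A)) = Multiplicative.ofAdd (x : A)
      rw [hρ, mem_fx.1 x.2]
  have h3 : Nat.card (Multiplicative A) = Nat.card A := rfl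
  rw [h2, h3, ← AddSubgroup.card_mul_index (fx A a), mul_comm] at h
  exact Nat.le_of_mul_le_mul_left h Nat.card_pos

end Cfsg.Agent.H795.S8
end

-- part: H827/S8/Quad
section
/-!
# S4908: two commuting extraspecial groups of order 27 modulo a central element of order three (helper827)

`quad_index`: `y, z` commuting of order dividing three, for `j < 3` and `k = y z ^ j` there are `u₁, v₁, u₂, v₂` which commute with
`z` and `k` and generate modulo `k` an extraspecial group of order `3 ^ 5` with centre `z`: then `|A : C_A(z)| ≥ 2 ^ 18` if `z`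
acts nontrivially on the `3'`-group `A`.
-/

set_option autoImplicit false
set_option linter.unusedSectionVars false

namespace Cfsg.Agent.H827.S8

open Cfsg.Agent.H320.SD

universe u v

structure Quad {X : Type v} [Group X] (z k u₁ v₁ u₂ v₂ : X) : Prop where
  zu₁ : u₁ * z = z * u₁
  zv₁ : v₁ * z = z * v₁
  zu₂ : u₂ * z = z * u₂
  zv₂ : v₂ * z = z * v₂
  ku₁ : u₁ * k = k * u₁
  kv₁ : v₁ * k = k * v₁
  ku₂ : u₂ * k = k * u₂
  kv₂ : v₂ * k = k * v₂
  c₁ : ∃ i : ℕ, u₁ ^ 3 = k ^ i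
  c₂ : ∃ i : ℕ, u₂ ^ 3 = k ^ i
  r₁ : ∃ i : ℕ, v₁ * u₁ = u₁ * (z * v₁) * k ^ i
  r₂ : ∃ i : ℕ, v₂ * u₂ = u₂ * (z * v₂) * k ^ i
  r₃ : ∃ i : ℕ, u₂ * u₁ = u₁ * u₂ * k ^ i
  r₄ : ∃ i : ℕ, v₂ * u₁ = u₁ * v₂ * k ^ i

section Act

variable {X : Type v} [Group X] {A : Type u} [AddCommGroup A] [DistribMulAction X A]

/-- the action of `C` on an invariant subgroup -/
@[reducible] def dact (M : AddSubgroup A) (C : Subgroup X) (hM : ∀ g ∈ C, ∀ x ∈ M, g • x ∈ M) : DistribMulAction C M where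
  smul g x := ⟨(g : X) • (x : A), hM g g.2 x x.2⟩
  one_smul x := Subtype.ext (one_smul _ _)
  mul_smul g h x := Subtype.ext (mul_smul _ _ _)
  smul_zero g := Subtype.ext (smul_zero _)
  smul_add g x y := Subtype.ext (smul_add _ _ _)

/-- the same as a homomorphism to the group of units of the ring of endomorphisms -/
def act (M : AddSubgroup A) (C : Subgroup X) (hM : ∀ g ∈ C, ∀ x ∈ M, g • x ∈ M) : C →* (AddMonoid.End M)ˣ :=
  letI := dact M C hM
  (DistribMulAction.toAddMonoidEnd C M).toHomUnits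

/-- the main estimate inside the fixed points of `k` -/
theorem quad_card [Finite A] (h3 : ∀ x : A, x + x + x = 0 → x = 0) {z k u₁ v₁ u₂ v₂ : X} (hz3 : z ^ 3 = 1)
    (hkz : k * z = z * k) (hQ : Quad z k u₁ v₁ u₂ v₂) (hM : cm A z ⊓ fx A k ≠ ⊥) :
    2 ^ 18 ≤ Nat.card (cm A z ⊓ fx A k : AddSubgroup A) := by
  set M : AddSubgroup A := cm A z ⊓ fx A k with hMdef
  let C : Subgroup X := Subgroup.centralizer {z, k}
  have hC : ∀ g : X, g ∈ C ↔ z * g = g * z ∧ k * g = g * k := by
    intro g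
    rw [Subgroup.mem_centralizer_iff]
    simp
  have hz3' : z * z * z = 1 := by rw [← hz3, pow_succ, pow_two]
  have hMC : ∀ g ∈ C, ∀ x ∈ M, g • x ∈ M := by
    intro g hg x hx
    obtain ⟨h1, h2⟩ := (hC g).1 hg
    refine ⟨smul_cm h1.symm hx.1, ?_⟩
    show k • g • x = g • x
    rw [← mul_smul, h2, mul_smul, mem_fx.1 hx.2]
  let f := act M C hMC
  have mz : z ∈ C := (hC z).2 ⟨rfl, hkz⟩
  have mk : k ∈ C := (hC k).2 ⟨hkz.symm, rfl⟩
  have mu₁ : u₁ ∈ C := (hC _).2 ⟨hQ.zu₁.symm, hQ.ku₁.symm⟩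
  have mv₁ : v₁ ∈ C := (hC _).2 ⟨hQ.zv₁.symm, hQ.kv₁.symm⟩
  have mu₂ : u₂ ∈ C := (hC _).2 ⟨hQ.zu₂.symm, hQ.ku₂.symm⟩
  have mv₂ : v₂ ∈ C := (hC _).2 ⟨hQ.zv₂.symm, hQ.kv₂.symm⟩
  have fk : f ⟨k, mk⟩ = 1 := by
    apply Units.ext
    apply AddMonoidHom.ext
    intro x
    exact Subtype.ext x.2.2
  have fki : ∀ i : ℕ, f (⟨k, mk⟩ ^ i) = 1 := fun i => by rw [map_pow, fk, one_pow]
  have z3 : f ⟨z, mz⟩ * f ⟨z, mz⟩ * f ⟨z, mz⟩ = 1 := by
    rw [← map_mul, ← map_mul, ← map_one f]
    congr 1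
    exact Subtype.ext hz3'
  have comm : ∀ (g h : X) (hg : g ∈ C) (hh : h ∈ C), g * h = h * g → f ⟨g, hg⟩ * f ⟨h, hh⟩ = f ⟨h, hh⟩ * f ⟨g, hg⟩ := by
    intro g h hg hh e
    rw [← map_mul, ← map_mul]
    congr 1
    exact Subtype.ext e
  have comm' : ∀ (g h : X) (hg : g ∈ C) (hh : h ∈ C), (∃ i : ℕ, g * h = h * g * k ^ i) →
      f ⟨g, hg⟩ * f ⟨h, hh⟩ = f ⟨h, hh⟩ * f ⟨g, hg⟩ := by
    rintro g h hg hh ⟨i, e⟩
    have e' : (⟨g, hg⟩ : C) * ⟨h, hh⟩ = ⟨h, hh⟩ * ⟨g, hg⟩ * ⟨k, mk⟩ ^ i := Subtype.ext e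
    rw [← map_mul, e', map_mul, map_mul, fki, mul_one]
  have cube : ∀ (g : X) (hg : g ∈ C), (∃ i : ℕ, g ^ 3 = k ^ i) → f ⟨g, hg⟩ * f ⟨g, hg⟩ * f ⟨g, hg⟩ = 1 := by
    rintro g hg ⟨i, e⟩
    have e' : (⟨g, hg⟩ : C) * ⟨g, hg⟩ * ⟨g, hg⟩ = ⟨k, mk⟩ ^ i := by
      apply Subtype.ext
      show g * g * g = k ^ i
      rw [← e, pow_succ, pow_two]
    rw [← map_mul, ← map_mul, e', fki]
  have rel : ∀ (g h : X) (hg : g ∈ C) (hh : h ∈ C), (∃ i : ℕ, h * g = g * (z * h) * k ^ i) →
      f ⟨h, hh⟩ * f ⟨g, hg⟩ = f ⟨g, hg⟩ * (f ⟨z, mz⟩ * f ⟨h, hh⟩) := by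
    rintro g h hg hh ⟨i, e⟩
    have e' : (⟨h, hh⟩ : C) * ⟨g, hg⟩ = ⟨g, hg⟩ * (⟨z, mz⟩ * ⟨h, hh⟩) * ⟨k, mk⟩ ^ i := Subtype.ext e
    rw [← map_mul, e', map_mul, map_mul, map_mul, fki, mul_one]
  have h3' : ∀ x : M, x + x + x = 0 → x = 0 := by
    intro x hx
    exact Subtype.ext (h3 _ (congrArg Subtype.val hx))
  have hzM : ∀ x : M, x + f ⟨z, mz⟩ • x + f ⟨z, mz⟩ • f ⟨z, mz⟩ • x = 0 := by
    intro x
    exact Subtype.ext (cm3 hz3' x.2.1)
  have htop : (⊤ : AddSubgroup M) ≠ ⊥ := by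
    intro h
    apply hM
    rw [AddSubgroup.eq_bot_iff_forall]
    intro x hx
    have : (⟨x, hx⟩ : M) ∈ (⊥ : AddSubgroup M) := h ▸ AddSubgroup.mem_top _
    exact congrArg Subtype.val (AddSubgroup.mem_bot.1 this)
  -- first step
  obtain ⟨a1, a2⟩ := step3 (u := f ⟨u₁, mu₁⟩) (v := f ⟨v₁, mv₁⟩) (z := f ⟨z, mz⟩) (⊤ : AddSubgroup M)
    (fun x _ => hzM x) (fun x _ => h3' x) (fun x _ => AddSubgroup.mem_top _) (fun x _ => AddSubgroup.mem_top _)
    (cube _ _ hQ.c₁) z3 (comm _ _ _ _ hQ.zu₁) (comm _ _ _ _ hQ.zv₁) (rel _ _ _ _ hQ.r₁) htop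
  -- second step
  have pres : ∀ (g : X) (hg : g ∈ C), (∃ i : ℕ, g * u₁ = u₁ * g * k ^ i) →
      ∀ x ∈ (⊤ ⊓ fx M (f ⟨u₁, mu₁⟩) : AddSubgroup M), f ⟨g, hg⟩ • x ∈ (⊤ ⊓ fx M (f ⟨u₁, mu₁⟩) : AddSubgroup M) := by
    intro g hg e x hx
    refine ⟨AddSubgroup.mem_top _, ?_⟩
    show f ⟨u₁, mu₁⟩ • f ⟨g, hg⟩ • x = f ⟨g, hg⟩ • x
    rw [← mul_smul, ← comm' g u₁ hg mu₁ e, mul_smul, mem_fx.1 hx.2]
  obtain ⟨b1, b2⟩ := step3 (u := f ⟨u₂, mu₂⟩) (v := f ⟨v₂, mv₂⟩) (z := f ⟨z, mz⟩)
    (⊤ ⊓ fx M (f ⟨u₁, mu₁⟩) : AddSubgroup M)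
    (fun x _ => hzM x) (fun x _ => h3' x) (pres _ _ hQ.r₃) (pres _ _ hQ.r₄)
    (cube _ _ hQ.c₂) z3 (comm _ _ _ _ hQ.zu₂) (comm _ _ _ _ hQ.zv₂) (rel _ _ _ _ hQ.r₂) a1
  -- last step
  have hzN : ∀ x ∈ (⊤ ⊓ fx M (f ⟨u₁, mu₁⟩) ⊓ fx M (f ⟨u₂, mu₂⟩) : AddSubgroup M),
      f ⟨z, mz⟩ • x ∈ (⊤ ⊓ fx M (f ⟨u₁, mu₁⟩) ⊓ fx M (f ⟨u₂, mu₂⟩) : AddSubgroup M) := by
    intro x hx
    refine ⟨⟨AddSubgroup.mem_top _, ?_⟩, ?_⟩
    · show f ⟨u₁, mu₁⟩ • f ⟨z, mz⟩ • x = f ⟨z, mz⟩ • x
      rw [← mul_smul, comm _ _ mu₁ mz hQ.zu₁, mul_smul, mem_fx.1 hx.1.2]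
    · show f ⟨u₂, mu₂⟩ • f ⟨z, mz⟩ • x = f ⟨z, mz⟩ • x
      rw [← mul_smul, comm _ _ mu₂ mz hQ.zu₂, mul_smul, mem_fx.1 hx.2]
  have c1 := four_le (z := f ⟨z, mz⟩) (⊤ ⊓ fx M (f ⟨u₁, mu₁⟩) ⊓ fx M (f ⟨u₂, mu₂⟩) : AddSubgroup M)
    (fun x _ => hzM x) (fun x _ => h3' x) hzN z3 b1
  have e : Nat.card (⊤ : AddSubgroup M) = Nat.card M := Nat.card_congr AddSubgroup.topEquiv.toEquiv
  rw [e] at a2
  have d1 : 4 ^ 3 ≤ Nat.card (⊤ ⊓ fx M (f ⟨u₁, mu₁⟩) : AddSubgroup M) := (Nat.pow_le_pow_left c1 3).trans b2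
  calc 2 ^ 18 = (4 ^ 3) ^ 3 := by norm_num
    _ ≤ _ := Nat.pow_le_pow_left d1 3
    _ ≤ _ := a2

end Act

/-- **The estimate of helper795.** -/
theorem quad_index {X : Type v} [Group X] {A : Type u} [AddCommGroup A] [Finite A] [DistribMulAction X A]
    (h3 : ∀ x : A, x + x + x = 0 → x = 0) {z y : X} (hz3 : z ^ 3 = 1) (hy3 : y ^ 3 = 1) (hzy : y * z = z * y)
    (hz : ∃ x : A, z • x ≠ x) (hQ : ∀ j : ℕ, j < 3 → ∃ u₁ v₁ u₂ v₂ : X, Quad z (y * z ^ j) u₁ v₁ u₂ v₂) :
    2 ^ 18 ≤ (fx A z).index := by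
  have hc : Commute y z := hzy
  have hz3' : z * z * z = 1 := by rw [← hz3, pow_succ, pow_two]
  have hy3' : y * y * y = 1 := by rw [← hy3, pow_succ, pow_two]
  have kz : ∀ j : ℕ, (y * z ^ j) * z = z * (y * z ^ j) := fun j => (hc.mul_left (Commute.pow_self z j)).eq
  rw [index_fx]
  by_contra hlt
  have hbot : ∀ j : ℕ, j < 3 → cm A z ⊓ fx A (y * z ^ j) = ⊥ := by
    intro j hj
    by_contra hne
    obtain ⟨u₁, v₁, u₂, v₂, h⟩ := hQ j hj
    have h1 := quad_card h3 hz3 (kz j) h hne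
    exact hlt (h1.trans (Nat.card_le_card_of_injective _ (AddSubgroup.inclusion_injective inf_le_left)))
  obtain ⟨x, hx⟩ := hz
  -- an element of the commutator
  have hw : x - z • x ∈ cm A z := mem_cm.2 ⟨x, rfl⟩
  have hw0 : x - z • x ≠ 0 := fun h => hx (sub_eq_zero.1 h).symm
  set w := x - z • x with hwdef
  have ezw : w + z • w + z • z • w = 0 := cm3 hz3' hw
  have ez3 : ∀ a : A, z • z • z • a = a := fun a => by rw [← mul_smul, ← mul_smul, hz3', one_smul]
  have cyz : ∀ a : A, z • y • a = y • z • a := fun a => by rw [← mul_smul, ← hzy, mul_smul]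
  have ek : ∀ j : ℕ, j < 3 → w + (y * z ^ j) • w + (y * z ^ j) • (y * z ^ j) • w = 0 := by
    intro j hj
    have hk3 : (y * z ^ j) * (y * z ^ j) * (y * z ^ j) = 1 := by
      have h1 : (y * z ^ j) ^ 3 = 1 := by
        rw [(hc.pow_right j).mul_pow, hy3, ← pow_mul, mul_comm j 3, pow_mul, hz3, one_pow, one_mul]
      rw [← h1, pow_succ, pow_two]
    have h1 : w + (y * z ^ j) • w + (y * z ^ j) • (y * z ^ j) • w ∈ cm A z ⊓ fx A (y * z ^ j) := by
      refine ⟨add_mem (add_mem hw (smul_cm (kz j) hw)) (smul_cm (kz j) (smul_cm (kz j) hw)), ?_⟩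
      show (y * z ^ j) • (w + (y * z ^ j) • w + (y * z ^ j) • (y * z ^ j) • w) = _
      rw [smul_add, smul_add, ← mul_smul (y * z ^ j) (y * z ^ j) ((y * z ^ j) • w), ← mul_smul ((y * z ^ j) * (y * z ^ j)), hk3,
        one_smul]
      abel
    rw [hbot j hj] at h1
    exact AddSubgroup.mem_bot.1 h1
  have k0 := ek 0 (by norm_num)
  have k1 := ek 1 (by norm_num)
  have k2 := ek 2 (by norm_num)
  have s1 : y • w + y • z • w + y • z • z • w = 0 := by
    rw [← smul_add, ← smul_add, ezw, smul_zero]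
  have s2 : y • y • w + y • y • z • w + y • y • z • z • w = 0 := by
    rw [← smul_add, ← smul_add, ← smul_add, ← smul_add, ezw, smul_zero, smul_zero]
  have t0 : w + y • w + y • y • w = 0 := by
    simpa only [pow_zero, mul_one] using k0
  have t1 : w + y • z • w + y • y • z • z • w = 0 := by
    have h := k1
    rw [pow_one] at h
    simpa only [mul_smul, cyz] using h
  have t2 : w + y • z • z • w + y • y • z • w = 0 := by
    have h := k2
    rw [pow_two] at h
    simpa only [mul_smul, cyz, ez3] using h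
  apply hw0
  apply h3
  have e : w + w + w = (w + y • w + y • y • w) + (w + y • z • w + y • y • z • z • w) + (w + y • z • z • w + y • y • z • w) -
      (y • w + y • z • w + y • z • z • w) - (y • y • w + y • y • z • w + y • y • z • z • w) := by abel
  rw [e, t0, t1, t2, s1, s2]
  simp

end Cfsg.Agent.H827.S8
end

-- part: H795/S8/SuzG
section
/-!
# Codimensions of the elements of `Suz` on its modules (helper795)

`BB` : the classes 2A and 3A (images of two elements under automorphisms).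
* `good_three` : exponent 3: `243 ≤ |A : C_A(g)|` outside `BB`, `27 ≤` in `BB`;
* `good_ne` : exponent `p ≠ 3`: `512 ≤` outside `BB`, `23 ≤` in `BB`.
-/

set_option autoImplicit false
set_option maxRecDepth 1000000
set_option exponentiation.threshold 5000

namespace Cfsg.Agent.H795.S8.SuzW

open Subgroup MulAction Cfsg.Agent.H257.RG.SuzF
open Cfsg Cfsg.Spor Cfsg.Agent.H123.Cls Cfsg.Agent.H123.Cls.SuzDat
open Cfsg.Agent.OddHalf.Table.SuzRep (ψ ψ_val ψ_injective)
open Cfsg.Agent.H320.SD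
open Cfsg.Agent.H827.S8 (Quad quad_index)

universe u

theorem simple : IsSimpleGroup Suz := Cfsg.Agent.S1694.result.1

theorem card_eq : Nat.card Suz = 448345497600 := Cfsg.Agent.S1694.result.2

theorem fin : Finite Suz := Nat.finite_of_card_ne_zero (by rw [card_eq]; norm_num)

section index

variable {A : Type u} [AddCommGroup A] [Finite A] [DistribMulAction Suz A]

theorem index_sy (x u : Suz) (s : ℕ) : (fx A (sy x u s)).index ≤ (fx A x).index := by
  match s with
  | 0 => exact le_rfl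
  | 1 => exact (index_conj x u).le
  | 2 => exact index_pow x 2
  | (k + 3) => exact (index_conj (x ^ 2) u).le.trans (index_pow x 2)

theorem index_wd (x u : Suz) (L : List ℕ) : (fx A (wd x u L)).index ≤ (fx A x).index ^ L.length := by
  induction L with
  | nil =>
    have : wd x u [] = 1 := by simp [wd]
    rw [this, index_one, List.length_nil, pow_zero]
  | cons s L ih =>
    have e : wd x u (s :: L) = sy x u s * wd x u L := by
      simp only [wd, List.map_cons, List.prod_cons]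
    rw [e, List.length_cons, pow_succ']
    exact (index_mul _ _).trans (Nat.mul_le_mul (index_sy x u s) ih)

end index

/-- the word is not trivial -/
noncomputable def chkN (a : List ℕ) : Bool := okL a && !(Nat.beq (evw 11 gens a 0) 0)

theorem w_ne {a : List ℕ} (h : chkN a = true) : wv' a ≠ 1 := by
  unfold chkN at h
  rw [Bool.and_eq_true] at h
  obtain ⟨h1, h2⟩ := h
  intro h3
  have h4 := ev_tab a (okL_spec h1) ⟨0, by norm_num⟩
  have h5 : Cfsg.Agent.SporadicRecognition.SuzOrder.el (a.map gn) = 1 := h3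
  rw [h5, map_one] at h4
  have h6 : evw 11 gens a 0 = 0 := h4.symm
  rw [h6] at h2
  simp at h2

theorem quad_of {K U V A B : List ℕ} {c1 c2 r1 r2 r3 r4 : ℕ} (h : chkQ K U V A B c1 c2 r1 r2 r3 r4 = true) :
    Quad (wv' Z) (wv' K) (wv' U) (wv' V) (wv' A) (wv' B) := by
  unfold chkQ at h
  simp only [Bool.and_eq_true] at h
  obtain ⟨h1, h2, h3, h4, h5, h6, h7, h8, h9, h10, h11, h12, h13, h14⟩ := h
  have e1 := w_eq h1
  have e2 := w_eq h2
  have e3 := w_eq h3
  have e4 := w_eq h4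
  have e5 := w_eq h5
  have e6 := w_eq h6
  have e7 := w_eq h7
  have e8 := w_eq h8
  have e9 := w_eq h9
  have e10 := w_eq h10
  have e11 := w_eq h11
  have e12 := w_eq h12
  have e13 := w_eq h13
  have e14 := w_eq h14
  simp only [w_app, w_rp] at e1 e2 e3 e4 e5 e6 e7 e8 e9 e10 e11 e12 e13 e14
  exact ⟨e1, e2, e3, e4, e5, e6, e7, e8, ⟨c1, e9⟩, ⟨c2, e10⟩, ⟨r1, e11⟩, ⟨r2, e12⟩, ⟨r3, e13⟩, ⟨r4, e14⟩⟩

theorem nz : chkN Z = true := by decide +kernel

/-- **exponent not 3: the class 3B** -/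
theorem good_z {p : ℕ} (hp : p.Prime) (hp3 : p ≠ 3) : Good.{u} Suz p (2 ^ 18) (wv' Z) := by
  intro A _ _ _ hA hn
  have := simple
  have hq := qz
  simp only [Bool.and_eq_true] at hq
  obtain ⟨z1, z2, z3⟩ := hq
  have e1 := w_eq z1
  have e2 := w_eq z2
  have e3 := w_eq z3
  rw [w_rp, w_nil] at e1 e2
  rw [w_app, w_app] at e3
  refine quad_index (y := wv' Y) ?_ e1 e2 e3 (faith hn (w_ne nz)) ?_
  · intro x hx
    have h1 : (3 : ℕ) • x = 0 := by
      rw [← hx, succ_nsmul, two_nsmul]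
    have h3 : addOrderOf x ∣ Nat.gcd 3 p :=
      Nat.dvd_gcd (addOrderOf_dvd_of_nsmul_eq_zero h1) (addOrderOf_dvd_of_nsmul_eq_zero (hA x))
    have h4 : Nat.gcd 3 p = 1 := (Nat.coprime_primes Nat.prime_three hp).2 (Ne.symm hp3)
    rw [h4, Nat.dvd_one] at h3
    exact AddMonoid.addOrderOf_eq_one_iff.1 h3
  · intro j hj
    have hk : ∀ n : ℕ, wv' (Y ++ rp Z n) = wv' Y * wv' Z ^ n := fun n => by rw [w_app, w_rp]
    rw [← hk]
    interval_cases j
    · exact ⟨_, _, _, _, quad_of q0⟩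
    · exact ⟨_, _, _, _, quad_of q1⟩
    · exact ⟨_, _, _, _, quad_of q2⟩

theorem nye : chkN YE = true := by decide +kernel

theorem ye_facts : wv' YE ^ 11 = 1 ∧ wv' BE ^ 10 = 1 ∧ wv' BE * wv' YE * (wv' BE)⁻¹ = wv' YE ^ 2 := by
  have hq := qe
  simp only [Bool.and_eq_true] at hq
  obtain ⟨h1, -, h2, h3⟩ := hq
  have e1 := w_eq h1
  have e2 := w_eq h2
  have e3 := w_eq h3
  rw [w_rp, w_nil] at e1 e2
  simp only [w_app] at e3
  refine ⟨e1, e2, ?_⟩
  rw [e3, mul_inv_cancel_right, pow_two]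

theorem order_ye : orderOf (wv' YE) = 11 := by
  have : Fact (Nat.Prime 11) := ⟨by norm_num⟩
  exact orderOf_eq_prime ye_facts.1 (w_ne nye)

/-- exponent 3: one element of order 11 -/
theorem good_ye : Good.{u} Suz 3 (3 ^ 10) (wv' YE) := by
  have := simple
  obtain ⟨h1, h2, h3⟩ := ye_facts
  refine good_cyc (p := 11) (k := 2) (b := wv' BE) (by norm_num) (by norm_num) (by norm_num) h1 (w_ne nye) (by norm_num) h2 h3 ?_
  intro i hi1 hi2
  interval_cases i <;> decide

theorem good_eleven {g : Suz} (hg : orderOf g = 11) : Good.{u} Suz 3 (3 ^ 10) g := by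
  obtain ⟨i, x, hi, hx, r, α, hr, hgr⟩ := idx_of hg [9] (by decide)
  obtain ⟨j, y, hj, hy, s, β, hs, hgs⟩ := idx_of order_ye [9] (by decide)
  rw [List.mem_singleton] at hi hj
  subst hi
  subst hj
  have hxy : x = y := Option.some_injective _ (hx.symm.trans hy)
  subst hxy
  have hrs : r = s := by
    apply ψ_injective
    ext p
    rw [hr, hs]
  subst hrs
  have h1 : r = β⁻¹ (wv' YE) := by
    rw [hgs]
    exact (β.symm_apply_apply r).symm
  rw [hgr, h1]
  exact (good_ye.aut β⁻¹).aut α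

theorem good_dvd {g : Suz} (hg : 11 ∣ orderOf g) : Good.{u} Suz 3 (3 ^ 10) g := by
  have := fin
  intro A _ _ _ hA hn
  have h0 : orderOf g ≠ 0 := (orderOf_pos g).ne'
  have h1 : orderOf (g ^ (orderOf g / 11)) = 11 := orderOf_pow_orderOf_div h0 hg
  exact (good_eleven h1 A hA hn).trans (index_pow g _)

/-- words of the representatives of the classes 2A and 3A -/
def CT : List (List ℕ) := [[0], [], [], [], [], [], [], [], [], [], [], [], [], [], [], [], [], [], [], [], [], [], [], [], [],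
  [], [], [], [], [], [], [], [], [], [], [], [4, 3]]

noncomputable def chkT (P : ℕ) (b : List ℕ) : Bool :=
  b.isEmpty || (okL b && [14, 98, 1, 1575, 0].all fun q => Nat.beq (lk 11 P q) (evw 11 gens b q))

theorem allT : ((D.zip CT).all fun z => chkT z.1.1 z.2) = true := by
  unfold D CT
  decide +kernel

theorem t_eq {i : ℕ} {x : ℕ × ℕ × List ℕ} {b : List ℕ} (hx : D[i]? = some x) (hb : CT[i]? = some b) (hb0 : b.isEmpty = false)
    {r : Suz} (hr : ∀ p : Fin 1782, (ψ r p : ℕ) = lk 11 x.1 p) : r = wv' b := by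
  have hz : (x, b) ∈ D.zip CT := List.mem_iff_getElem?.2 ⟨i, List.getElem?_zip_eq_some.2 ⟨hx, hb⟩⟩
  have hc := List.all_eq_true.1 allT _ hz
  unfold chkT at hc
  rw [Bool.or_eq_true, Bool.and_eq_true] at hc
  rcases hc with hc | ⟨h1, h2⟩
  · rw [hb0] at hc
    exact absurd hc (by decide)
  · apply ext_base
    intro q hq
    have h4 := List.all_eq_true.1 h2 q hq
    rw [hr]
    unfold wv'
    rw [ev_tab b (okL_spec h1)]
    exact Nat.eq_of_beq_eq_true h4

/-- the classes 2A and 3A -/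
def BB : Set Suz := {g | (∃ α : MulAut Suz, g = α (wv' [0])) ∨ ∃ α : MulAut Suz, g = α (wv' [4, 3])}

theorem len11 : ∀ i < 37, i = 0 ∨ i = 1 ∨ i = 36 ∨
    (C11.getD i (0, [], [])).1 = 11 ∧ (C11.getD i (0, [], [])).2.2.isEmpty = false := by
  unfold C11
  decide +kernel

theorem len3 : ∀ i < 37, i = 0 ∨ i = 1 ∨ i = 36 ∨ (C3.getD i ([], [], 0, [])).2.1.isEmpty = false := by
  unfold C3
  decide +kernel

theorem lenC : C11.length = 37 ∧ C3.length = 37 := by
  constructor <;> rfl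

/-- the class outside `BB` -/
theorem rep_of {g : Suz} (hg : g ≠ 1) (hB : g ∉ BB) : ∃ (i : ℕ) (x : ℕ × ℕ × List ℕ), i < 37 ∧ i ≠ 0 ∧ i ≠ 1 ∧ i ≠ 36 ∧
    D[i]? = some x ∧ ∃ (r : Suz) (α : MulAut Suz), (∀ p : Fin 1782, (ψ r p : ℕ) = lk 11 x.1 p) ∧ g = α r := by
  obtain ⟨i, x, y, hi, hx, hy, ⟨r, α, hr, hgr⟩, -, hd⟩ := cls_of g
  refine ⟨i, x, hi, ?_, ?_, ?_, hx, r, α, hr, hgr⟩
  · rintro rfl
    apply hB
    left
    refine ⟨α, ?_⟩
    rw [hgr, t_eq hx (b := [0]) rfl rfl hr]
  · rintro rfl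
    have h1 : y = (0, 1, 1) := Option.some_injective _ (hy.symm.trans rfl)
    rw [h1] at hd
    exact hg (orderOf_eq_one_iff.1 (Nat.dvd_one.1 hd))
  · rintro rfl
    apply hB
    right
    refine ⟨α, ?_⟩
    rw [hgr, t_eq hx (b := [4, 3]) rfl rfl hr]

/-- exponent 3, outside `BB` -/
theorem good_three {g : Suz} (hg : g ≠ 1) (hB : g ∉ BB) : Good.{u} Suz 3 243 g := by
  obtain ⟨i, x, hi, h0, h1, h36, hx, r, α, hr, rfl⟩ := rep_of hg hB
  refine Good.aut ?_ α
  have hi' : i < C11.length := by rw [lenC.1]; exact hi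
  have hc : C11[i]? = some (C11.getD i (0, [], [])) := by
    rw [List.getD_eq_getElem?_getD, List.getElem?_eq_getElem hi']; rfl
  obtain ⟨c, hcc⟩ : ∃ c, c = C11.getD i (0, [], []) := ⟨_, rfl⟩
  have hl := len11 i hi
  rw [← hcc] at hl hc
  have hl' : c.1 = 11 ∧ c.2.2.isEmpty = false := by tauto
  have hz : (x, c) ∈ D.zip C11 := List.mem_iff_getElem?.2 ⟨i, List.getElem?_zip_eq_some.2 ⟨hx, hc⟩⟩
  have hk := List.all_eq_true.1 all11 _ hz
  unfold chk11 at hk
  simp only [Bool.or_eq_true, Bool.and_eq_true] at hk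
  rcases hk with hk | ⟨k1, k2, k3⟩
  · rw [hl'.2] at hk
    exact absurd hk (by decide)
  · have hlen : c.2.2.length = 2 := Nat.eq_of_beq_eq_true k2
    rw [hl'.1] at k3
    have hd : 11 ∣ orderOf (wd r (wv' c.2.1) c.2.2) := dvd_of_chk hr (okL_spec k1) rfl (by norm_num) k3
    intro A _ _ _ hA hn
    have h2 := good_dvd hd A hA hn
    have h3 := index_wd (A := A) r (wv' c.2.1) c.2.2
    rw [hlen] at h3
    have h4 : 243 ^ 2 ≤ (fx A r).index ^ 2 := le_trans (by norm_num) (h2.trans h3)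
    exact (Nat.pow_le_pow_iff_left (by norm_num)).1 h4

/-- exponent not 3, outside `BB` -/
theorem good_ne {p : ℕ} (hp : p.Prime) (hp3 : p ≠ 3) {g : Suz} (hg : g ≠ 1) (hB : g ∉ BB) : Good.{u} Suz p 512 g := by
  obtain ⟨i, x, hi, h0, h1, h36, hx, r, α, hr, rfl⟩ := rep_of hg hB
  refine Good.aut ?_ α
  have hi' : i < C3.length := by rw [lenC.2]; exact hi
  have hc : C3[i]? = some (C3.getD i ([], [], 0, [])) := by
    rw [List.getD_eq_getElem?_getD, List.getElem?_eq_getElem hi']; rfl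
  obtain ⟨c, hcc⟩ : ∃ c, c = C3.getD i ([], [], 0, []) := ⟨_, rfl⟩
  have hl := len3 i hi
  rw [← hcc] at hl hc
  have hl' : c.2.1.isEmpty = false := by tauto
  have hz : (x, c) ∈ D.zip C3 := List.mem_iff_getElem?.2 ⟨i, List.getElem?_zip_eq_some.2 ⟨hx, hc⟩⟩
  have hk := List.all_eq_true.1 all3 _ hz
  unfold chk3 at hk
  simp only [Bool.or_eq_true, Bool.and_eq_true] at hk
  rcases hk with hk | ⟨k1, k2, -, k3⟩
  · rw [hl'] at hk
    exact absurd hk (by decide)
  · have hlen : c.2.1.length = 2 := Nat.eq_of_beq_eq_true k2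
    have hd := wd_eq hr k1 rfl k3
    rw [wd_rep, w_app, w_app, w_rev] at hd
    intro A _ _ _ hA hn
    have h2 := good_z hp hp3 A hA hn
    rw [← index_conj _ (wv' c.2.2.2), ← hd] at h2
    have h2' := h2.trans (index_pow (A := A) (wd r (wv' c.1) c.2.1) c.2.2.1)
    have h3 := index_wd (A := A) r (wv' c.1) c.2.1
    rw [hlen] at h3
    have h4 : 512 ^ 2 ≤ (fx A r).index ^ 2 := le_trans (by norm_num) (h2'.trans h3)
    exact (Nat.pow_le_pow_iff_left (by norm_num)).1 h4

/-- products of order five of two elements of `BB` -/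
def P0 : List ℕ := [0] ++ [6, 2, 0, 1, 3] ++ [0] ++ [3, 1, 0, 2, 6]

def P3 : List ℕ := [4, 3] ++ [5, 0, 4, 2, 3, 6, 4, 1, 2] ++ [4, 3] ++ [2, 1, 4, 6, 3, 2, 4, 0, 5]

theorem p_facts : (chkE (rp P0 5) [] && (chkN P0 && (chkE (rp P3 5) [] && (chkN P3 &&
    (chkE (rp [0] 2) [] && chkE (rp [4, 3] 3) []))))) = true := by decide +kernel

theorem b_rep {Q q : ℕ} {p : ℕ} (hp : p.Prime) (hQ : ∀ g : Suz, g ≠ 1 → g ∉ BB → Good.{u} Suz p Q g) {g : Suz} (hg : g ∈ BB)
    (A : Type u) [AddCommGroup A] [Finite A] [DistribMulAction Suz A] (hA : ∀ x : A, p • x = 0)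
    (hn : ∃ (h : Suz) (x : A), h • x ≠ x) (hq : ∀ m k : ℕ, m = p ^ k → Q ≤ m ^ 2 → q ≤ m) : q ≤ (fx A g).index := by
  have hf := p_facts
  simp only [Bool.and_eq_true] at hf
  obtain ⟨f1, f2, f3, f4, f5, f6⟩ := hf
  have e1 := w_eq f1
  have e3 := w_eq f3
  have e5 := w_eq f5
  have e6 := w_eq f6
  rw [w_rp, w_nil] at e1 e3 e5 e6
  have n1 := w_ne f2
  have n3 := w_ne f4
  -- elements of order five are outside `BB`
  have key : ∀ w : Suz, w ^ 5 = 1 → w ≠ 1 → w ∉ BB := by
    rintro w h5 h1 (⟨α, rfl⟩ | ⟨α, rfl⟩)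
    · apply h1
      have h2 : α (wv' [0]) ^ 2 = 1 := by rw [← map_pow, e5, map_one]
      have h3 : orderOf (α (wv' [0])) ∣ Nat.gcd 5 2 := Nat.dvd_gcd (orderOf_dvd_of_pow_eq_one h5) (orderOf_dvd_of_pow_eq_one h2)
      exact orderOf_eq_one_iff.1 (Nat.dvd_one.1 h3)
    · apply h1
      have h2 : α (wv' [4, 3]) ^ 3 = 1 := by rw [← map_pow, e6, map_one]
      have h3 : orderOf (α (wv' [4, 3])) ∣ Nat.gcd 5 3 := Nat.dvd_gcd (orderOf_dvd_of_pow_eq_one h5) (orderOf_dvd_of_pow_eq_one h2)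
      exact orderOf_eq_one_iff.1 (Nat.dvd_one.1 h3)
  have g0 : ∀ (a u : List ℕ) (w : Suz), w = wv' a * (wv' u * wv' a * (wv' u)⁻¹) → w ^ 5 = 1 → w ≠ 1 →
      Good.{u} Suz p q (wv' a) := by
    intro a u w hw h5 h1 A' _ _ _ hA' hn'
    have h2 := hQ w h1 (key w h5 h1) A' hA' hn'
    rw [hw] at h2
    have h3 := h2.trans (index_mul (A := A') (wv' a) (wv' u * wv' a * (wv' u)⁻¹))
    rw [index_conj, ← pow_two] at h3
    obtain ⟨k, hk⟩ := index_prime_pow hp hA' (wv' a)
    exact hq _ k hk h3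
  rcases hg with ⟨α, rfl⟩ | ⟨α, rfl⟩
  · refine (g0 [0] [6, 2, 0, 1, 3] (wv' P0) ?_ e1 n1).aut α A hA hn
    unfold P0
    rw [w_app, w_app, w_app, show ([3, 1, 0, 2, 6] : List ℕ) = [6, 2, 0, 1, 3].reverse from rfl, w_rev]
    group
  · refine (g0 [4, 3] [5, 0, 4, 2, 3, 6, 4, 1, 2] (wv' P3) ?_ e3 n3).aut α A hA hn
    unfold P3
    rw [w_app, w_app, w_app, show ([2, 1, 4, 6, 3, 2, 4, 0, 5] : List ℕ) = [5, 0, 4, 2, 3, 6, 4, 1, 2].reverse from rfl, w_rev]
    group

theorem num3 (m k : ℕ) (hm : m = 3 ^ k) (h : 243 ≤ m ^ 2) : 27 ≤ m := by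
  have hk : 3 ≤ k := by
    by_contra hc
    have : k ≤ 2 := by omega
    interval_cases k <;> subst hm <;> norm_num at h
  rw [hm]
  calc 27 = 3 ^ 3 := by norm_num
    _ ≤ 3 ^ k := Nat.pow_le_pow_right (by norm_num) hk

theorem num2 (m : ℕ) (h : 512 ≤ m ^ 2) : 23 ≤ m := by
  by_contra hc
  have h1 : m ≤ 22 := by omega
  have h2 : m ^ 2 ≤ 22 ^ 2 := Nat.pow_le_pow_left h1 2
  omega

/-- exponent 3, in `BB` -/
theorem good_threeB {g : Suz} (hg : g ∈ BB) : Good.{u} Suz 3 27 g := by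
  intro A _ _ _ hA hn
  exact b_rep (Q := 243) Nat.prime_three (fun g h1 h2 => good_three h1 h2) hg A hA hn num3

/-- exponent not 3, in `BB` -/
theorem good_neB {p : ℕ} (hp : p.Prime) (hp3 : p ≠ 3) {g : Suz} (hg : g ∈ BB) : Good.{u} Suz p 23 g := by
  intro A _ _ _ hA hn
  exact b_rep (Q := 512) hp (fun g h1 h2 => good_ne hp hp3 h1 h2) hg A hA hn fun m _ _ h => num2 m h

end Cfsg.Agent.H795.S8.SuzW
end

-- part: H331/S8/CodimB
section
/-!
# `Chief c D X` from codimensions with a small exceptional set (helper331, for helper795's Suz row of S4908)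

* `countB` : the count with a small bad set `B`;
* `chief_of_mod` : the module form of `Chief`;
* `chief_of_codimB` : `Chief` from `countB`;
* `pairs_orbit`, `pairs_orbit2` : commuting pairs whose first member is an automorphic image of `r` (or `r'`).
-/

set_option autoImplicit false
set_option linter.unusedSectionVars false

namespace Cfsg.Agent.H331.S8

open Cfsg
open Cfsg.Agent.H320.SD

universe u v

section Count

variable {X : Type v} [Group X] [Finite X] {A : Type u} [AddCommGroup A] [DistribMulAction X A] [Finite A]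

/-- the count with a bad set -/
theorem countB {c K m q q' : ℕ} (hc : 1 ≤ c) (hk : Nat.card (ConjClasses X) ≤ K) (B : Set X)
    (hB : Nat.card {p : X × X // p.1 ∈ B ∧ Commute p.1 p.2} ≤ m * Nat.card X)
    (hlt : c * (q * q' + K * q' * Nat.card X + (m + 1) * q * Nat.card X) < q * q' * Nat.card X)
    (hcod : ∀ z : X, z ≠ 1 → z ∉ B → q ≤ (fx A z).index) (hcod' : ∀ z : X, z ≠ 1 → z ∈ B → q' ≤ (fx A z).index)
    (hT : ∀ x : A, x ≠ 0 → Nat.card X ≤
      c * (Nat.card (MulAction.stabilizer X x) * Nat.card (ConjClasses (MulAction.stabilizer X x)))) : False := by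
  classical
  have := Fintype.ofFinite X
  have := Fintype.ofFinite A
  set n := Nat.card X with hn
  set a := Nat.card A with ha
  have ha0 : 0 < a := Nat.card_pos
  have hn0 : 0 < n := Nat.card_pos
  have hk0 : 0 < Nat.card (ConjClasses X) := by
    have : Finite (ConjClasses X) := Quotient.finite _
    exact Nat.card_pos
  set S := ∑ x : A, Nat.card {p : X × X // p.1 • x = x ∧ p.2 • x = x ∧ Commute p.1 p.2} with hS
  have h1 : S = ∑ p : X × X, Nat.card {x : A // p.1 • x = x ∧ p.2 • x = x ∧ Commute p.1 p.2} := by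
    rw [hS]
    simp only [Nat.card_eq_fintype_card, Fintype.card_subtype, Finset.card_filter]
    exact Finset.sum_comm
  -- lower bound
  have h2 : a * n ≤ c * S := by
    rw [hS, Finset.mul_sum]
    have h3 : ∀ x : A, n ≤ c * Nat.card {p : X × X // p.1 • x = x ∧ p.2 • x = x ∧ Commute p.1 p.2} := by
      intro x
      by_cases hx : x = 0
      · subst hx
        rw [card_pairs_zero, ← hn]
        calc n = 1 * (1 * n) := by ring
          _ ≤ c * (Nat.card (ConjClasses X) * n) := Nat.mul_le_mul hc (Nat.mul_le_mul_right _ hk0)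
      · rw [card_pairs, mul_comm (Nat.card (ConjClasses _))]
        exact hT x hx
    calc a * n = ∑ _x : A, n := by rw [Finset.sum_const, Finset.card_univ, smul_eq_mul, ha, Nat.card_eq_fintype_card]
      _ ≤ _ := Finset.sum_le_sum fun x _ => h3 x
  -- upper bound
  have h4 : q * q' * S ≤ q * q' * a + Nat.card (ConjClasses X) * n * (q' * a) + m * n * (q * a) + n * (q * a) := by
    rw [h1, Finset.mul_sum]
    have h5 : ∀ p : X × X, q * q' * Nat.card {x : A // p.1 • x = x ∧ p.2 • x = x ∧ Commute p.1 p.2} ≤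
        (if p = (1, 1) then q * q' * a else 0) + (if Commute p.1 p.2 then q' * a else 0) +
          (if p.1 ∈ B ∧ Commute p.1 p.2 then q * a else 0) + (if p.1 = 1 then q * a else 0) := by
      intro p
      set f := Nat.card {x : A // p.1 • x = x ∧ p.2 • x = x ∧ Commute p.1 p.2} with hf
      by_cases hp : p = (1, 1)
      · rw [if_pos hp]
        have h6 : f ≤ a := Nat.card_le_card_of_injective _ Subtype.val_injective
        calc q * q' * f ≤ q * q' * a := Nat.mul_le_mul_left _ h6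
          _ ≤ _ := by
            rw [add_assoc, add_assoc]
            exact Nat.le_add_right _ _
      · rw [if_neg hp, zero_add]
        by_cases hcm : Commute p.1 p.2
        · rw [if_pos hcm]
          have e1 : f ≤ Nat.card (fx A p.1) :=
            Nat.card_le_card_of_injective (fun x => (⟨x.1, x.2.1⟩ : fx A p.1)) fun x y hxy =>
              Subtype.ext (congrArg (fun w : fx A p.1 => (w : A)) hxy)
          have e2 : f ≤ Nat.card (fx A p.2) :=
            Nat.card_le_card_of_injective (fun x => (⟨x.1, x.2.2.1⟩ : fx A p.2)) fun x y hxy =>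
              Subtype.ext (congrArg (fun w : fx A p.2 => (w : A)) hxy)
          have k1 : ∀ (z : X) (w : ℕ), w ≤ (fx A z).index → f ≤ Nat.card (fx A z) → w * f ≤ a := by
            intro z w hw hz
            have h6 := AddSubgroup.card_mul_index (fx A z)
            calc w * f ≤ (fx A z).index * Nat.card (fx A z) := Nat.mul_le_mul hw hz
              _ = a := by rw [mul_comm, h6]
          by_cases h : p.1 = 1
          · rw [if_pos h]
            have hp2 : p.2 ≠ 1 := fun h' => hp (Prod.ext h h')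
            by_cases hb : p.2 ∈ B
            · have := k1 p.2 q' (hcod' p.2 hp2 hb) e2
              calc q * q' * f = q * (q' * f) := by ring
                _ ≤ q * a := Nat.mul_le_mul_left _ this
                _ ≤ _ := Nat.le_add_left _ _
            · have := k1 p.2 q (hcod p.2 hp2 hb) e2
              calc q * q' * f = q' * (q * f) := by ring
                _ ≤ q' * a := Nat.mul_le_mul_left _ this
                _ ≤ _ := by
                  rw [add_assoc]
                  exact Nat.le_add_right _ _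
          · by_cases hb : p.1 ∈ B
            · rw [if_pos (⟨hb, hcm⟩ : p.1 ∈ B ∧ Commute p.1 p.2)]
              have := k1 p.1 q' (hcod' p.1 h hb) e1
              calc q * q' * f = q * (q' * f) := by ring
                _ ≤ q * a := Nat.mul_le_mul_left _ this
                _ ≤ q' * a + q * a := Nat.le_add_left _ _
                _ ≤ _ := Nat.le_add_right _ _
            · have := k1 p.1 q (hcod p.1 h hb) e1
              calc q * q' * f = q' * (q * f) := by ring
                _ ≤ q' * a := Nat.mul_le_mul_left _ this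
                _ ≤ _ := by
                  rw [add_assoc]
                  exact Nat.le_add_right _ _
        · have : IsEmpty {x : A // p.1 • x = x ∧ p.2 • x = x ∧ Commute p.1 p.2} := ⟨fun x => hcm x.2.2.2⟩
          rw [hf, Nat.card_of_isEmpty, mul_zero]
          exact Nat.zero_le _
    refine (Finset.sum_le_sum fun p _ => h5 p).trans ?_
    rw [Finset.sum_add_distrib, Finset.sum_add_distrib, Finset.sum_add_distrib,
      Finset.sum_ite_eq' Finset.univ ((1, 1) : X × X), if_pos (Finset.mem_univ _)]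
    have s1 : ∑ p : X × X, (if Commute p.1 p.2 then q' * a else 0) = Nat.card (ConjClasses X) * n * (q' * a) := by
      rw [← Finset.sum_filter, Finset.sum_const, smul_eq_mul, hn, ← card_comm_eq_card_conjClasses_mul_card,
        Nat.card_eq_fintype_card, Fintype.card_subtype]
    have s2 : ∑ p : X × X, (if p.1 ∈ B ∧ Commute p.1 p.2 then q * a else 0) ≤ m * n * (q * a) := by
      rw [← Finset.sum_filter, Finset.sum_const, smul_eq_mul]
      refine Nat.mul_le_mul_right _ ?_
      rw [Nat.card_eq_fintype_card, Fintype.card_subtype] at hB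
      exact hB
    have s3 : ∑ p : X × X, (if p.1 = 1 then q * a else 0) ≤ n * (q * a) := by
      rw [← Finset.sum_filter, Finset.sum_const, smul_eq_mul]
      refine Nat.mul_le_mul_right _ ?_
      rw [hn, Nat.card_eq_fintype_card, ← Fintype.card_subtype]
      exact Fintype.card_le_of_injective (fun p : {p : X × X // p.1 = 1} => p.1.2) fun x y hxy =>
        Subtype.ext (Prod.ext (x.2.trans y.2.symm) hxy)
    rw [s1]
    exact Nat.add_le_add (Nat.add_le_add le_rfl s2) s3
  have h7 : a * (q * q' * n) ≤ a * (c * (q * q' + K * q' * n + (m + 1) * q * n)) := by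
    calc a * (q * q' * n) = q * q' * (a * n) := by ring
      _ ≤ q * q' * (c * S) := Nat.mul_le_mul_left _ h2
      _ = c * (q * q' * S) := by ring
      _ ≤ c * (q * q' * a + Nat.card (ConjClasses X) * n * (q' * a) + m * n * (q * a) + n * (q * a)) :=
        Nat.mul_le_mul_left _ h4
      _ ≤ c * (q * q' * a + K * n * (q' * a) + m * n * (q * a) + n * (q * a)) := by gcongr
      _ = a * (c * (q * q' + K * q' * n + (m + 1) * q * n)) := by ring
  exact absurd (Nat.le_of_mul_le_mul_left h7 ha0) (not_le.2 hlt)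

end Count

open Cfsg.Agent.H704.S8 in
/-- `Chief` in module form -/
theorem chief_of_mod {X : Type v} [Group X] [Finite X] {c : ℕ} (D : Set ℕ)
    (H : ∀ (A : Type u) [AddCommGroup A] [Finite A] [DistribMulAction X A] (r : ℕ), r.Prime →
      (∀ x : A, r • x = 0) → (∀ x : A, (∀ g : X, g • x = x) → x = 0) → Nontrivial A →
      (∀ x : A, x ≠ 0 → Nat.card X ≤
        c * (Nat.card (MulAction.stabilizer X x) * Nat.card (ConjClasses (MulAction.stabilizer X x)))) → False) :
    Chief.{u} c D X := by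
  intro Λ _ _ ρ h
  by_contra hne
  push Not at hne
  obtain ⟨x0, hx0⟩ := hne
  have hnt : Nontrivial Λ := ⟨x0, 1, hx0⟩
  obtain ⟨r, hr, hdvd⟩ := Nat.exists_prime_and_dvd (Finite.one_lt_card (α := Λ)).ne'
  have : Fact r.Prime := ⟨hr⟩
  obtain ⟨y, hy⟩ := exists_prime_orderOf_dvd_card' r hdvd
  let S : Subgroup Λ := (powMonoidHom r : Λ →* Λ).ker
  have hS : ∀ x : Λ, x ∈ S ↔ x ^ r = 1 := fun x => Iff.rfl
  have hρ : ∀ (g : X) (x : Λ), x ∈ S → ρ g x ∈ S := by
    intro g x hx
    rw [hS, ← map_pow, (hS x).1 hx, map_one]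
  let act : DistribMulAction X (Additive S) :=
    { smul := fun g a => Additive.ofMul ⟨ρ g (Additive.toMul a : S), hρ g _ (Additive.toMul a : S).2⟩
      one_smul := fun a => by
        apply Additive.toMul.injective
        apply Subtype.ext
        show ρ 1 (Additive.toMul a : S) = _
        rw [map_one]; rfl
      mul_smul := fun g g' a => by
        apply Additive.toMul.injective
        apply Subtype.ext
        show ρ (g * g') (Additive.toMul a : S) = ρ g (ρ g' (Additive.toMul a : S))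
        rw [map_mul]; rfl
      smul_zero := fun g => by
        apply Additive.toMul.injective
        apply Subtype.ext
        show ρ g 1 = 1
        rw [map_one]
      smul_add := fun g a b => by
        apply Additive.toMul.injective
        apply Subtype.ext
        show ρ g ((Additive.toMul a : S) * (Additive.toMul b : S)) = ρ g _ * ρ g _
        rw [map_mul] }
  have hval : ∀ (g : X) (a : Additive S), ((Additive.toMul (g • a) : S) : Λ) = ρ g (Additive.toMul a : S) := fun _ _ => rfl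
  have hfix : ∀ (g : X) (a : Additive S), g • a = a ↔ ρ g ((Additive.toMul a : S) : Λ) = (Additive.toMul a : S) := by
    intro g a
    constructor
    · intro h1
      rw [← hval, h1]
    · intro h1
      apply Additive.toMul.injective
      apply Subtype.ext
      rw [hval, h1]
  have hne0 : ∀ a : Additive S, a ≠ 0 → ((Additive.toMul a : S) : Λ) ≠ 1 := by
    intro a ha h1
    apply ha
    apply Additive.toMul.injective
    apply Subtype.ext
    exact h1
  have hA : Nontrivial (Additive S) := by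
    refine ⟨Additive.ofMul ⟨y, (hS y).2 (by rw [← hy]; exact pow_orderOf_eq_one y)⟩, 0, ?_⟩
    intro h1
    have h2 : y = 1 := congrArg (fun a : Additive S => ((Additive.toMul a : S) : Λ)) h1
    rw [h2, orderOf_one] at hy
    exact hr.one_lt.ne hy
  have hT : ∀ x : Additive S, x ≠ 0 → MulAction.stabilizer X x ≠ ⊤ ∧ Nat.card X ≤
      c * (Nat.card (MulAction.stabilizer X x) * Nat.card (ConjClasses (MulAction.stabilizer X x))) := by
    intro x hx
    obtain ⟨T, hT, hTt, hcard, -⟩ := h _ (hne0 x hx)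
    have e : T = MulAction.stabilizer X x := by
      ext g
      rw [hT, MulAction.mem_stabilizer_iff, hfix]
    subst e
    exact ⟨hTt, hcard.le⟩
  refine H (Additive S) r hr ?_ ?_ hA fun x hx => (hT x hx).2
  · intro x
    apply Additive.toMul.injective
    apply Subtype.ext
    exact (hS _).1 (Additive.toMul x : S).2
  · intro x hx
    by_contra hx0
    apply (hT x hx0).1
    rw [eq_top_iff]
    intro g _
    exact hx g

open Cfsg.Agent.H704.S8 in
/-- **`Chief` from codimensions, with a small bad set.** -/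
theorem chief_of_codimB {X : Type v} [Group X] [Finite X] {c K m : ℕ} (D : Set ℕ) (hc : 1 ≤ c)
    (hk : Nat.card (ConjClasses X) ≤ K) (B : Set X)
    (hB : Nat.card {p : X × X // p.1 ∈ B ∧ Commute p.1 p.2} ≤ m * Nat.card X)
    (hcod : ∀ (A : Type u) [AddCommGroup A] [Finite A] [DistribMulAction X A] (r : ℕ), r.Prime → (∀ x : A, r • x = 0) →
      (∀ x : A, (∀ g : X, g • x = x) → x = 0) → Nontrivial A →
      ∃ q q' : ℕ, c * (q * q' + K * q' * Nat.card X + (m + 1) * q * Nat.card X) < q * q' * Nat.card X ∧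
        (∀ z : X, z ≠ 1 → z ∉ B → q ≤ (fx A z).index) ∧ (∀ z : X, z ≠ 1 → z ∈ B → q' ≤ (fx A z).index)) :
    Chief.{u} c D X := by
  refine chief_of_mod D fun A _ _ _ r hr hr0 hf hA hT => ?_
  obtain ⟨q, q', hlt, h1, h2⟩ := hcod A r hr hr0 hf hA
  exact countB hc hk B hB hlt h1 h2 hT

/-- commuting pairs with first member an automorphic image of `r` -/
theorem pairs_orbit {G : Type v} [Group G] [Finite G] (r : G) :
    Nat.card {p : G × G // (∃ α : MulAut G, p.1 = α r) ∧ Commute p.1 p.2} ≤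
      (MulAut.conj : G →* MulAut G).range.index * Nat.card G := by
  classical
  let I : Subgroup (MulAut G) := (MulAut.conj : G →* MulAut G).range
  let C : Subgroup G := Subgroup.centralizer {r}
  have hfin : Finite (MulAut G ⧸ I) := inferInstance
  have hcomm : ∀ (b h : G), h ∈ C → Commute (b * r * b⁻¹) (b * h * b⁻¹) := by
    intro b h hh
    have h1 : h * r = r * h := Subgroup.mem_centralizer_singleton_iff.1 hh
    show b * r * b⁻¹ * (b * h * b⁻¹) = b * h * b⁻¹ * (b * r * b⁻¹)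
    calc b * r * b⁻¹ * (b * h * b⁻¹) = b * (r * h) * b⁻¹ := by group
      _ = b * (h * r) * b⁻¹ := by rw [h1]
      _ = b * h * b⁻¹ * (b * r * b⁻¹) := by group
  let F : (MulAut G ⧸ I) × (G ⧸ C) × C → {p : G × G // (∃ α : MulAut G, p.1 = α r) ∧ Commute p.1 p.2} := fun x =>
    ⟨(x.1.out (x.2.1.out * r * x.2.1.out⁻¹), x.1.out (x.2.1.out * (x.2.2 : G) * x.2.1.out⁻¹)),
      ⟨x.1.out * MulAut.conj x.2.1.out, by rw [MulAut.mul_apply, MulAut.conj_apply]⟩,
      (hcomm _ _ x.2.2.2).map (x.1.out : G ≃* G)⟩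
  have hF : Function.Surjective F := by
    rintro ⟨⟨g, h⟩, ⟨α, hα⟩, hc⟩
    change g = α r at hα
    change Commute g h at hc
    have h2 : ((α : MulAut G ⧸ I).out : MulAut G)⁻¹ * α ∈ I := QuotientGroup.eq.1 (QuotientGroup.out_eq' _)
    obtain ⟨b, hb⟩ := h2
    have h3 : α = (α : MulAut G ⧸ I).out * MulAut.conj b := by rw [hb, mul_inv_cancel_left]
    set β : MulAut G := (α : MulAut G ⧸ I).out with hβ
    set b' : G := ((b : G) : G ⧸ C).out with hb'
    have h4 : b'⁻¹ * b ∈ C := QuotientGroup.eq.1 (QuotientGroup.out_eq' _)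
    have h5 : b * r * b⁻¹ = b' * r * b'⁻¹ := by
      have h6 : b'⁻¹ * b * r = r * (b'⁻¹ * b) := Subgroup.mem_centralizer_singleton_iff.1 h4
      calc b * r * b⁻¹ = b' * (b'⁻¹ * b * r) * b⁻¹ := by group
        _ = b' * (r * (b'⁻¹ * b)) * b⁻¹ := by rw [h6]
        _ = b' * r * b'⁻¹ := by group
    have h7 : g = β (b' * r * b'⁻¹) := by
      rw [hα, ← h5]
      have := DFunLike.congr_fun h3 r
      rw [MulAut.mul_apply, MulAut.conj_apply] at this
      exact this
    have h8 : b'⁻¹ * β⁻¹ h * b' ∈ C := by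
      rw [Subgroup.mem_centralizer_singleton_iff]
      have h9 : Commute (β⁻¹ g) (β⁻¹ h) := hc.map (β⁻¹ : G ≃* G)
      have h10 : β⁻¹ g = b' * r * b'⁻¹ := by rw [h7, MulAut.inv_apply_self]
      rw [h10] at h9
      have h11 : b' * r * b'⁻¹ * β⁻¹ h = β⁻¹ h * (b' * r * b'⁻¹) := h9
      calc b'⁻¹ * β⁻¹ h * b' * r = b'⁻¹ * (β⁻¹ h * (b' * r * b'⁻¹)) * b' := by group
        _ = b'⁻¹ * (b' * r * b'⁻¹ * β⁻¹ h) * b' := by rw [h11]
        _ = r * (b'⁻¹ * β⁻¹ h * b') := by group
    refine ⟨((α : MulAut G ⧸ I), ((b : G) : G ⧸ C), ⟨_, h8⟩), ?_⟩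
    apply Subtype.ext
    apply Prod.ext
    · exact h7.symm
    · show β (b' * (b'⁻¹ * β⁻¹ h * b') * b'⁻¹) = h
      have h12 : b' * (b'⁻¹ * β⁻¹ h * b') * b'⁻¹ = β⁻¹ h := by group
      rw [h12, MulAut.apply_inv_self]
  calc _ ≤ Nat.card ((MulAut G ⧸ I) × (G ⧸ C) × C) := Nat.card_le_card_of_surjective F hF
    _ = I.index * Nat.card G := by
      rw [Nat.card_prod, Nat.card_prod, ← Subgroup.index, ← Subgroup.index, mul_comm C.index,
        Subgroup.card_mul_index]

/-- commuting pairs with first member an automorphic image of `r` or of `r'` -/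
theorem pairs_orbit2 {G : Type v} [Group G] [Finite G] (r r' : G) {k : ℕ}
    (hI : (MulAut.conj : G →* MulAut G).range.index ≤ k) :
    Nat.card {p : G × G // p.1 ∈ {g : G | (∃ α : MulAut G, g = α r) ∨ ∃ α : MulAut G, g = α r'} ∧ Commute p.1 p.2} ≤
      2 * k * Nat.card G := by
  classical
  let F : {p : G × G // p.1 ∈ {g : G | (∃ α : MulAut G, g = α r) ∨ ∃ α : MulAut G, g = α r'} ∧ Commute p.1 p.2} →
      {p : G × G // (∃ α : MulAut G, p.1 = α r) ∧ Commute p.1 p.2} ⊕
        {p : G × G // (∃ α : MulAut G, p.1 = α r') ∧ Commute p.1 p.2} := fun p =>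
    if h : ∃ α : MulAut G, p.1.1 = α r then Sum.inl ⟨p.1, h, p.2.2⟩
    else Sum.inr ⟨p.1, p.2.1.resolve_left h, p.2.2⟩
  have hF : Function.Injective F := by
    intro p p' hpp
    apply Subtype.ext
    simp only [F] at hpp
    split_ifs at hpp with h1 h2 h2
    · have h9 := Sum.inl_injective hpp
      exact (Subtype.ext_iff.1 h9 :)
    · have h9 := Sum.inr_injective hpp
      exact (Subtype.ext_iff.1 h9 :)
  calc _ ≤ _ := Nat.card_le_card_of_injective F hF
    _ = Nat.card {p : G × G // (∃ α : MulAut G, p.1 = α r) ∧ Commute p.1 p.2} +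
        Nat.card {p : G × G // (∃ α : MulAut G, p.1 = α r') ∧ Commute p.1 p.2} := Nat.card_sum
    _ ≤ k * Nat.card G + k * Nat.card G :=
      Nat.add_le_add ((pairs_orbit r).trans (Nat.mul_le_mul_right _ hI)) ((pairs_orbit r').trans (Nat.mul_le_mul_right _ hI))
    _ = 2 * k * Nat.card G := by ring

end Cfsg.Agent.H331.S8
end

-- part: H795/S8/SuzChief
section
/-!
# S4908: no abelian chief factors below `Suz` (helper795)

`chief` : `Chief 2 D X` for `X ≅ Suz` and all sets `D`.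
-/

set_option autoImplicit false

namespace Cfsg.Agent.H795.S8.SuzW

open Cfsg Cfsg.Spor
open Cfsg.Agent.H320.SD
open Cfsg.Agent.H704.S8 (Chief)

universe u v

theorem chief_suz (D : Set ℕ) : Chief.{u} 2 D Suz := by
  have := fin
  refine Cfsg.Agent.H331.S8.chief_of_codimB (c := 2) (K := 74) (m := 4) D (by norm_num) Cfsg.Agent.H759.S8.SuzK.k_suz BB ?_ ?_
  · exact Cfsg.Agent.H331.S8.pairs_orbit2 (k := 2) (wv' [0]) (wv' [4, 3])
      (Cfsg.Agent.H952.S8.Suz.index_le (X := Suz) ⟨MulEquiv.refl _⟩)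
  · intro A _ _ _ p hp hA hfix hnt
    have hn : ∃ (h : Suz) (x : A), h • x ≠ x := by
      by_contra hc
      push Not at hc
      obtain ⟨x, hx⟩ := exists_ne (0 : A)
      exact hx (hfix x fun g => hc g x)
    by_cases h3 : p = 3
    · subst h3
      refine ⟨243, 27, ?_, fun z hz hB => good_three hz hB A hA hn, fun z _ hB => good_threeB hB A hA hn⟩
      rw [card_eq]
      norm_num
    · refine ⟨512, 23, ?_, fun z hz hB => good_ne hp h3 hz hB A hA hn, fun z _ hB => good_neB hp h3 hB A hA hn⟩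
      rw [card_eq]
      norm_num

/-- **`Chief` for `Suz`** -/
theorem chief {X : Type v} [Group X] (hX : Spor.IsoSuz X) (D : Set ℕ) : Chief.{u} 2 D X := by
  obtain ⟨e⟩ := hX
  exact Cfsg.Agent.H546.S8.chief_congr e.symm (chief_suz D)

end Cfsg.Agent.H795.S8.SuzW
end

private theorem dce_992eca120aad : _root_.True := by
  try have : _root_.True := by simp only [_root_.Cfsg.Agent.H795.S8.SuzW.rp.eq_2]
  try have : _root_.True := by simp only [_root_.Cfsg.Agent.H795.S8.SuzW.rp.eq_1]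
  try have : _root_.True := by simp only [_root_.Cfsg.Agent.H795.S8.SuzW.rp.eq_def]
  exact _root_.True.intro
end

-- part: H497/S8/CoThreeA
section
set_option linter.all false
open scoped Cfsg.Agent.FastGrp

/-!
# S4908, `Co3`: the degrees modulo 7 (helper497)

`mod7` : the degrees of `Co3` are `0, ± 1, ± 2` modulo 7 (`C(x) = 7 × S3` for `x` of order 7).
-/

set_option autoImplicit false

open Cfsg Subgroup

namespace Cfsg.Agent.H497.S8.Co3

open Cfsg.Agent.Characters.Core
open Cfsg.Agent.SmallSimple.ThetaSetup Cfsg.Agent.SmallSimple.ThetaOrtho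
open Cfsg.Agent.SmallSimple.TheoremC Cfsg.Agent.SmallSimple.TheoremCCor
open Cfsg.Agent.H653.Sieve Cfsg.Agent.H651.Two Cfsg.Agent.SmallSimple
open Cfsg.Agent.H133.Ore.Co3 (simple card fin not_comm)
open Cfsg.Agent.SporRec.Co3.Chain (G3)

universe u

theorem no42 (g : Spor.Co3) : orderOf g ≠ 42 := by
  have h := Cfsg.Agent.H417.Two.Co3Seven.no42 (Cfsg.Agent.SporRec.Co3.Model.equivCo3.symm g)
  rwa [MulEquiv.orderOf_eq] at h

theorem card_cent_equiv {A B : Type*} [Group A] [Group B] (e : A ≃* B) (x : A) :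
    Nat.card (centralizer ({e x} : Set B)) = Nat.card (centralizer ({x} : Set A)) := by
  refine (Nat.card_congr ?_).symm
  refine Equiv.subtypeEquiv e.toEquiv fun a => ?_
  rw [mem_centralizer_singleton_iff, mem_centralizer_singleton_iff]
  show _ ↔ e a * e x = e x * e a
  rw [← map_mul, ← map_mul]
  exact ⟨fun h => by rw [h], fun h => e.injective h⟩

theorem cent7 {x : Spor.Co3} (hx : orderOf x = 7) : Nat.card (centralizer ({x} : Set Spor.Co3)) = 7 * 6 := by
  have e := Cfsg.Agent.SporRec.Co3.Model.equivCo3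
  have h := Cfsg.Agent.H417.Two.Co3Seven.card_cent
    (x := Cfsg.Agent.SporRec.Co3.Model.equivCo3.symm x) (by rw [MulEquiv.orderOf_eq, hx])
  have h2 := card_cent_equiv Cfsg.Agent.SporRec.Co3.Model.equivCo3.symm x
  rw [h] at h2
  exact h2.symm

/-- a group of order six with four linear characters has an element of order six -/
theorem exists_six {K : Type*} [Group K] [Finite K] (hK : Nat.card K = 6) (s : Finset (IrrCharacter K))
    (hs : 4 ≤ s.card) : ∃ g : K, orderOf g = 6 := by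
  classical
  have : Finite (IrrCharacter K) := finite_irr
  have := Fintype.ofFinite (IrrCharacter K)
  have hsum := SmallSimple.DegreeData.sum_sq (G := K)
  have hall : ∀ χ : IrrCharacter K, charDegree (χ : K → ℂ) = 1 := by
    intro χ
    by_contra hne
    have hpos : 0 < charDegree (χ : K → ℂ) := H681.DegBasic.pos_of_mem (G := K) ⟨χ, rfl⟩
    have h2 : 2 ≤ charDegree (χ : K → ℂ) := by omega
    have h4 : 2 * 2 ≤ charDegree (χ : K → ℂ) ^ 2 := by rw [pow_two]; exact Nat.mul_le_mul h2 h2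
    have h5 : (s.erase χ).card ≤ ∑ ψ ∈ s.erase χ, charDegree (ψ : K → ℂ) ^ 2 := by
      rw [Finset.card_eq_sum_ones]
      refine Finset.sum_le_sum fun ψ _ => ?_
      have : 0 < charDegree (ψ : K → ℂ) := H681.DegBasic.pos_of_mem (G := K) ⟨ψ, rfl⟩
      exact pow_pos this 2
    have h6 : ∑ ψ ∈ insert χ (s.erase χ), charDegree (ψ : K → ℂ) ^ 2 ≤ ∑ ψ : IrrCharacter K, charDegree (ψ : K → ℂ) ^ 2 :=
      Finset.sum_le_sum_of_subset (Finset.subset_univ _)
    rw [Finset.sum_insert (Finset.notMem_erase χ s), hsum, hK] at h6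
    have h7 : s.card - 1 ≤ (s.erase χ).card := Finset.pred_card_le_card_erase
    omega
  have hcomm := S0187.result.2 (fun χ : IrrCharacter K => by
    have := Blocks.Knorr.charDegree_eq χ.2
    rw [this, hall χ, Nat.cast_one])
  obtain ⟨a, ha⟩ := exists_prime_orderOf_dvd_card' (G := K) 2 (by rw [hK]; norm_num)
  obtain ⟨b, hb⟩ := exists_prime_orderOf_dvd_card' (G := K) 3 (by rw [hK]; norm_num)
  refine ⟨a * b, ?_⟩
  rw [Commute.orderOf_mul_eq_mul_orderOf_of_coprime (hcomm a b) (by rw [ha, hb]; norm_num), ha, hb]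

theorem cases_mn : ∀ m n : ℕ, 0 < m → 0 < n → m ∣ 6 → n ∣ 6 → m * (n * n) ≤ 6 → ((n ≠ 1 ∨ m ≠ 1) → m * (n * n) + 1 ≤ 6) →
    ¬ (m = 3 ∧ n = 1) → (m = 1 ∧ n = 1) ∨ (m = 2 ∧ n = 1) ∨ (m = 1 ∧ n = 2) := by
  intro m n hm hn hm6 hn6 h1 h2 h3
  have : m ≤ 6 := Nat.le_of_dvd (by norm_num) hm6
  have : n ≤ 6 := Nat.le_of_dvd (by norm_num) hn6
  interval_cases m <;> interval_cases n <;> simp_all

/-- **The degrees modulo 7.** -/
theorem mod7 (χ : IrrCharacter Spor.Co3) : charDegree (χ : Spor.Co3 → ℂ) % 7 = 0 ∨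
    charDegree (χ : Spor.Co3 → ℂ) % 7 = 1 ∨ charDegree (χ : Spor.Co3 → ℂ) % 7 = 6 ∨
    charDegree (χ : Spor.Co3 → ℂ) % 7 = 2 ∨ charDegree (χ : Spor.Co3 → ℂ) % 7 = 5 := by
  classical
  have := simple
  have := fin
  have : Finite (IrrCharacter Spor.Co3) := finite_irr
  have := Fintype.ofFinite (IrrCharacter Spor.Co3)
  have h7 : Fact (Nat.Prime 7) := ⟨by norm_num⟩
  by_cases hχ : 7 ∣ charDegree (χ : Spor.Co3 → ℂ)
  · exact Or.inl (Nat.mod_eq_zero_of_dvd hχ)
  obtain ⟨x, hx⟩ := exists_prime_orderOf_dvd_card' (G := Spor.Co3) 7 (by rw [card]; norm_num)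
  obtain ⟨P, K, hP, hPx, hK, hKk, ht, hrel⟩ := H606.OreM.Exact.exists_data not_comm card hx (cent7 hx) 6 1
    (by decide +kernel)
  obtain ⟨θ, m, n, hm, hn, hm0, hn0, hme, hnk, hres, -⟩ := H606.OreM.Block.exists_theta hK hP hrel ht χ hχ
  have hsq := orb_sq_le hK θ.2
  have hdeg : charDegree (θ : K → ℂ) = n := by
    unfold charDegree
    rw [hn]; simp
  rw [hdeg, hKk, ← hm] at hsq
  rw [hKk] at hnk
  obtain ⟨hsq1, hsq2⟩ := hsq
  have hm6 : m ≤ 6 := Nat.le_of_dvd (by norm_num) hme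
  have hn6 : n ≤ 6 := Nat.le_of_dvd (by norm_num) hnk
  -- the orbit of size three
  have h31 : ¬ (m = 3 ∧ n = 1) := by
    rintro ⟨hm3, hn1⟩
    subst hn1
    have ho : (⟨1, isIrr_one⟩ : IrrCharacter K) ∉ orb P K (θ : K → ℂ) := by
      intro ho
      obtain ⟨g, hg, h⟩ := mem_orb.1 ho
      have hθ1 : (θ : K → ℂ) = 1 := by
        have h2 : tw (tw (θ : K → ℂ) g) g⁻¹ = (θ : K → ℂ) := by
          rw [← tw_mul hK _ hg (inv_mem hg), mul_inv_cancel, tw_one]
        have h3 : tw (θ : K → ℂ) g = 1 := h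
        rw [← h2, h3]
        exact tw_one_char hK (inv_mem hg)
      have hor : orb P K (1 : K → ℂ) = {⟨1, isIrr_one⟩} :=
        orb_of_stable isIrr_one fun n hn => tw_one_char hK hn
      rw [hθ1, hor, Finset.card_singleton] at hm
      omega
    obtain ⟨g, hg⟩ := exists_six hKk (insert (⟨1, isIrr_one⟩ : IrrCharacter K) (orb P K (θ : K → ℂ)))
      (by rw [Finset.card_insert_of_notMem ho, ← hm, hm3])
    have hgm := (hK g).1 g.2
    have hxP : x ∈ (P : Subgroup Spor.Co3) := by rw [hPx]; exact mem_zpowers x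
    have hc : Commute x (g : Spor.Co3) := (mem_centralizer_iff.1 hgm.1 x hxP)
    have ho : orderOf (x * (g : Spor.Co3)) = 42 := by
      rw [hc.orderOf_mul_eq_mul_orderOf_of_coprime (by rw [hx, Subgroup.orderOf_coe, hg]; norm_num), hx,
        Subgroup.orderOf_coe, hg]
    exact no42 _ ho
  generalize charDegree (χ : Spor.Co3 → ℂ) = d at *
  have hmn := cases_mn m n hm0 hn0 hme hnk hsq1 hsq2 h31
  rcases hmn with ⟨rfl, rfl⟩ | ⟨rfl, rfl⟩ | ⟨rfl, rfl⟩
  · push_cast at hres
    omega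
  · push_cast at hres
    omega
  · push_cast at hres
    omega

end Cfsg.Agent.H497.S8.Co3
end

-- part: H497/S8/CoThree
section
set_option linter.all false
open scoped Cfsg.Agent.FastGrp

/-!
# S4908, SOLV for `Co3` (helper497)

`NumMin` with `m = 23`: 275 is a degree, `23 * 275 = 6325` is not (it is 4 modulo 7), and no divisor of `528 * 506` which is
prime to 23 and less than 529 is a degree (264 is excluded by the restriction to `M23`, 528 modulo 7).
-/

set_option autoImplicit false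

open Cfsg Subgroup

namespace Cfsg.Agent.H497.S8.Co3

open Cfsg.Agent.H653.Sieve Cfsg.Agent.H651.Two Cfsg.Agent.Characters.Core
open Cfsg.Agent.H511.Ore (MinDeg NoDeg DegOn tstOn degOn_of_check)
open Cfsg.Agent.H133.Ore.Co3 (simple card fin not_comm cd facs facs_prime facs_prod ok has minDeg21 no22)

universe u v

theorem noDeg : NoDeg Spor.Co3 [22, 264, 528] := by
  intro χ h
  simp only [List.mem_cons, List.not_mem_nil, or_false] at h
  rcases h with h | h | h
  · exact no22 χ h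
  · exact no264 χ h
  · have := mod7 χ
    omega

theorem chk23 : allDiv (23 * 23) (tstOn (fun _ => true) 21 [22, 264, 528] cd) facs 1 = true := by decide +kernel

theorem minDeg23 : MinDeg Spor.Co3 23 := by
  have := simple
  have := fin
  exact fun χ h => degOn_of_check not_comm _ card facs facs_prime facs_prod cd ok has minDeg21 noDeg chk23 χ h rfl

def P (d : ℕ) : Bool := Nat.beq (11616 % d) 0

theorem chk529 : allDiv (529 * 529) (tstOn P 23 [22, 264, 528] cd) facs 1 = true := by decide +kernel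

theorem deg529 : DegOn Spor.Co3 P 529 := by
  have := simple
  have := fin
  exact degOn_of_check not_comm _ card facs facs_prime facs_prod cd ok has minDeg23 noDeg chk529

theorem one_deg : charDegree (1 : Spor.Co3 → ℂ) = 1 := by
  unfold charDegree
  simp

theorem min {d : ℕ} (hd : d ∈ charDegrees Spor.Co3) : d = 1 ∨ 23 ≤ d := by
  obtain ⟨χ, rfl⟩ := hd
  by_cases h : (χ : Spor.Co3 → ℂ) = 1
  · left
    show charDegree (χ : Spor.Co3 → ℂ) = 1
    rw [h, one_deg]
  · exact Or.inr (minDeg23 χ h)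

theorem not_6325 : 6325 ∉ charDegrees Spor.Co3 := by
  rintro ⟨χ, h⟩
  have h : charDegree (χ : Spor.Co3 → ℂ) = 6325 := h
  have := mod7 χ
  omega

theorem not_dvd {o : ℕ} (h1 : 1 < o) (h2 : o < 529) (h3 : o ∣ 11616) : o ∉ charDegrees Spor.Co3 := by
  rintro ⟨χ, h⟩
  have h : charDegree (χ : Spor.Co3 → ℂ) = o := h
  have hne : (χ : Spor.Co3 → ℂ) ≠ 1 := by
    intro h4
    rw [h4, one_deg] at h
    omega
  have h5 := deg529 χ hne (by rw [h, P, Nat.mod_eq_zero_of_dvd h3]; rfl)
  omega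

theorem mem275 : 275 ∈ charDegrees Spor.Co3 := by
  obtain ⟨θ, hθ, hθd, -⟩ := Cfsg.Agent.H769.PB.CoThreeRank5.exists_275
  exact ⟨θ, hθd⟩

theorem mem23 : 23 ∈ charDegrees Spor.Co3 := by
  obtain ⟨μ, hμ⟩ := Cfsg.Agent.H843.IMC.Co3A.exists_mu
  have hμ23 : charDegree (μ : Spor.Co3 → ℂ) = 23 := by
    have h4 := hμ 1
    have h6 : Cfsg.Agent.H419.LeechIrr.lchi Cfsg.Agent.H419.Spor.Co3.inc 1 = 24 := by
      rw [Cfsg.Agent.H419.LeechIrr.lchi, map_one, Cfsg.Agent.SigZeroCo2.Lin.tr8_one]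
      norm_num
    rw [h6, Cfsg.Agent.Blocks.Basic.irr_one_eq_charDegree μ.2] at h4
    have : (24 : ℂ) = ((1 + charDegree (μ : Spor.Co3 → ℂ) : ℕ) : ℂ) := by rw [h4]; push_cast; ring
    have h9 : 24 = 1 + charDegree (μ : Spor.Co3 → ℂ) := by exact_mod_cast this
    omega
  exact ⟨μ, hμ23⟩

theorem gl_eq : H704.S8.gl 23 1 = 267168 := by
  simp [H704.S8.gl, Finset.prod_range_succ]

theorem kill : H704.S8.Kill (charDegrees Spor.Co3) 23 := by
  constructor
  · intro p k hp h
    refine ⟨275, mem275, ?_, not_6325⟩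
    have hk : k ≠ 0 := by rintro rfl; norm_num at h
    have h1 : p ∣ 23 := by rw [h]; exact dvd_pow_self p hk
    rw [(Nat.prime_dvd_prime_iff_eq hp (by norm_num)).1 h1]
    norm_num
  · intro q a hq ha hmod
    refine ⟨275, mem275, fun e he hde => ?_⟩
    have he1 : e = 275 := by
      obtain ⟨w, hw⟩ := he
      have he0 : 0 < e := by
        rcases Nat.eq_zero_or_pos e with h | h
        · rw [h, zero_mul] at hw; omega
        · exact h
      have hdiv : 275 / e = w := by rw [hw]; exact Nat.mul_div_cancel_left w he0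
      rw [hdiv] at hde
      rcases (Nat.dvd_prime (by norm_num)).1 hde with h | h
      · rw [h] at hw; omega
      · rw [h] at hw; omega
    subst he1
    refine ⟨not_6325, fun hdvd => ?_⟩
    have h1 : q ^ a ∣ 5 ^ 4 * 11 ^ 2 := by
      have h2 : (275 : ℕ) ^ 2 = 5 ^ 4 * 11 ^ 2 := by norm_num
      rwa [h2] at hdvd
    have hqd : q ∣ 5 ^ 4 * 11 ^ 2 := (dvd_pow_self q ha.ne').trans h1
    have hq2 : q = 5 ∨ q = 11 := by
      rcases hq.dvd_mul.1 hqd with h | h
      · exact Or.inl ((Nat.prime_dvd_prime_iff_eq hq (by norm_num)).1 (hq.dvd_of_dvd_pow h))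
      · exact Or.inr ((Nat.prime_dvd_prime_iff_eq hq (by norm_num)).1 (hq.dvd_of_dvd_pow h))
    rcases hq2 with rfl | rfl
    · have h2 : 5 ^ a ∣ 5 ^ 4 := Nat.Coprime.dvd_of_dvd_mul_right (Nat.Coprime.pow _ _ (by norm_num)) h1
      have h3 : a ≤ 4 := (Nat.pow_dvd_pow_iff_le_right (by norm_num)).1 h2
      interval_cases a <;> exact absurd hmod (by decide)
    · have h2 : 11 ^ a ∣ 11 ^ 2 := Nat.Coprime.dvd_of_dvd_mul_left (Nat.Coprime.pow _ _ (by norm_num)) h1
      have h3 : a ≤ 2 := (Nat.pow_dvd_pow_iff_le_right (by norm_num)).1 h2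
      interval_cases a <;> exact absurd hmod (by decide)

theorem sc : H704.S8.SC1 (charDegrees Spor.Co3) 23 := by
  refine H704.S8.SC1.of_coprime (by norm_num) ?_
  intro s c o t hs hc hsc ho1 ho2 hso hgl ht hot
  have h1 : s ∣ 23 := (dvd_pow_self s (by omega)).trans hsc
  have h2 : s = 23 := (Nat.prime_dvd_prime_iff_eq hs (by norm_num)).1 h1
  subst h2
  have h3 : c = 1 := by
    have h4 : 23 ^ c ∣ 23 ^ 1 := by rwa [pow_one]
    have h5 : c ≤ 1 := (Nat.pow_dvd_pow_iff_le_right (by norm_num)).1 h4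
    omega
  subst h3
  have h4 : t = 1 := by
    have : t ∣ 1 := by simpa using ht
    exact Nat.dvd_one.1 this
  subst h4
  rw [mul_one] at hot
  rw [gl_eq] at hgl
  refine not_dvd ho1 (by simpa using ho2) ?_ hot
  have h5 : o ∣ 23 * 11616 := by simpa using hgl
  exact Nat.Coprime.dvd_of_dvd_mul_left ((Nat.Coprime.symm ((Nat.Prime.coprime_iff_not_dvd (by norm_num)).2 hso))) h5

/-- **NumMin for `Co3`.** -/
theorem num : H704.S8.NumMin (charDegrees Spor.Co3) :=
  ⟨23, mem23, by norm_num, fun _ hd => min hd, kill, sc⟩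

/-- **SOLV for `Co3`.** -/
theorem solv_iso {X : Type v} [Group X] (hX : Spor.IsoCo3 X) {D : Set ℕ} (hD : H704.S8.Deg 1 X D) : H704.S8.Solv.{u} D := by
  obtain ⟨e⟩ := hX
  rcases hD with rfl | ⟨h, -⟩
  · rw [H424.DegTools.charDegrees_congr e]
    exact H185.S8.solv_of_numMin num
  · exact absurd h (by norm_num)

end Cfsg.Agent.H497.S8.Co3

private theorem dce_9bf2b82296da : _root_.True := by
  try have : _root_.True := by simp only [_root_.Cfsg.Agent.H704.S8.gl.eq_1]
  try have : _root_.True := by simp only [_root_.Cfsg.Agent.H497.S8.Co3.P.eq_1]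
  exact _root_.True.intro
end
end
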